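import Groth.Agent.Stk19b.Theta.Arrow
import Groth.Agent.Stk19.AlgSt.With
import Groth.Agent.Stk19.AlgSt.LocQ
import Groth.Agent.Stk19.Yoneda

/-! Universal arrows of functors representable by affine morphisms. -/

set_option autoImplicit false
set_option backward.isDefEq.respectTransparency false
set_option backward.isDefEq.respectTransparency.types false

universe u

open CategoryTheory CategoryTheory.Limits AlgebraicGeometry Opposite FibCat Groth.Agent.Stk19

namespace Groth.Agent.Stk19b.Theta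

variable {S : Scheme.{u}} {ℬ 𝒳 𝒴 : AlgSt.Cat S}

/-- The category of a scheme has a final object. -/
def ofSchTop (W : Over S) : (AlgSt.ofSch W).obj := ⟨W, ⟨𝟙 W⟩⟩

theorem existsUnique_to_top {W : Over S} (a : (AlgSt.ofSch W).obj) : ∃! φ : a ⟶ ofSchTop W, True := by
  refine ⟨⟨a.sec.down, ULift.ext _ _ (Category.comp_id a.sec.down :)⟩, trivial, fun φ _ => ?_⟩
  apply Stk.EltObj.hom_ext
  have h : φ.hom ≫ (ofSchTop W).sec.down = a.sec.down := congrArg ULift.down φ.map_sec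
  exact ((Category.comp_id _).symm.trans h)

/-- A functor representable by affine morphisms has universal arrows, affine over the base. -/
theorem exists_uarr {P : MorphismProperty Scheme.{u}} [P.RespectsIso] [P.IsStableUnderBaseChange] (h𝒳 : IsFibGrpd 𝒳.p) (h𝒴 : IsFibGrpd 𝒴.p)
    {f : 𝒳 ⥤ᵇ 𝒴} (hf : AlgSt.RepByAlgSpWith (AlgSp.RepWith P) f) (bot : ℬ ⥤ᵇ 𝒴) (b : ℬ.obj) :
    ∃ A : UArr f bot b, P (eqToHom (f.w_obj A.x).symm ≫ 𝒴.p.map A.m ≫ eqToHom (bot.w_obj b)).left := by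
  let T := ℬ.p.obj b
  obtain ⟨y, i, hi⟩ := exists_classifying h𝒴 (bot.obj b) (bot.w_obj b)
  obtain ⟨F, e, he, ha⟩ := hf T y
  obtain ⟨W, ⟨σ⟩⟩ := scheme_of_repWith _ ha
  let E : AlgSt.ofSch W ⥤ᵇ fp y f := BasedFunctor.comp (AlgSt.ofSpMap σ.hom) e
  have hE : IsEquivOver E := isEquivOver_comp (isEquivOver_ofSpMap σ.hom) he
  haveI := isEquivalence_of_isEquivOver hE
  obtain ⟨k, hk⟩ := (AlgSp.yon S).map_surjective (σ.hom ≫ AlgSt.spMapOfOver (BasedFunctor.comp e (fpFst y f)))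
  have hkP : P k.left := by
    have hr : AlgSp.RepWith P ((AlgSp.yon S).map k) := by
      rw [hk]
      exact AlgSpLib.RepWith.baseChange (IsPullback.of_horiz_isIso ⟨(Category.comp_id _).symm⟩) ha
    exact (AlgSp.repWith_yon_map_iff P k).1 hr
  obtain ⟨jΦ⟩ := spMapOfOver_iso (BasedFunctor.comp E (fpFst y f))
  have eΦ : AlgSt.spMapOfOver (BasedFunctor.comp E (fpFst y f)) = (AlgSp.yon S).map k := by
    rw [show BasedFunctor.comp E (fpFst y f) =
      BasedFunctor.comp (AlgSt.ofSpMap σ.hom) (BasedFunctor.comp e (fpFst y f)) from rfl,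
      spMapOfOver_ofSpMap_comp, hk]
  let z := E.obj (ofSchTop W)
  have ez : ∀ w : (fp y f).obj, ∃! ψ : w ⟶ z, True := fun w => by
    let a := E.toFunctor.objPreimage w
    let ι : E.obj a ≅ w := E.toFunctor.objObjPreimageIso w
    obtain ⟨φ, -, hu⟩ := existsUnique_to_top a
    refine ⟨ι.inv ≫ E.map φ, trivial, fun ψ _ => ?_⟩
    obtain ⟨φ', hφ'⟩ := E.toFunctor.map_surjective (ι.hom ≫ ψ)
    rw [← hu φ' trivial, hφ']
    simp
  have ezb : 𝒳.p.obj z.obj.snd = z.obj.fst.left := fp_base_eq z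
  let top : ∀ a : Over T, a ⟶ Over.mk (𝟙 T) := fun a => Over.homMk a.hom (Category.comp_id _)
  have htop : ∀ a : Over T, 𝒴.p.map (y.map (top a) ≫ i.hom) =
      eqToHom (y.w_obj a) ≫ a.hom ≫ eqToHom (bot.w_obj b).symm := fun a => by
    haveI := hi
    rw [𝒴.p.map_comp, based_map y, map_eq_of_vert 𝒴.p (R := T) i.hom]
    simp [top, T]
  let m : f.obj z.obj.snd ⟶ bot.obj b := z.obj.iso.inv ≫ y.map (top z.obj.fst) ≫ i.hom
  have hzi : 𝒴.p.map z.obj.iso.inv =
      eqToHom ((f.w_obj z.obj.snd).trans (ezb.trans (y.w_obj z.obj.fst).symm)) := by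
    rw [← cancel_epi (𝒴.p.map z.obj.iso.hom), ← 𝒴.p.map_comp, Iso.hom_inv_id, fp_iso_map z]
    simp
  have hmp : 𝒴.p.map m = eqToHom ((f.w_obj z.obj.snd).trans ezb) ≫ z.obj.fst.hom ≫ eqToHom (bot.w_obj b).symm := by
    rw [𝒴.p.map_comp, htop, hzi]
    simp
  refine ⟨⟨z.obj.snd, m, fun x' m' => ?_⟩, ?_⟩
  · let c : 𝒳.p.obj x' ⟶ T := eqToHom (f.w_obj x').symm ≫ 𝒴.p.map m' ≫ eqToHom (bot.w_obj b)
    let a : Over T := Over.mk c
    obtain ⟨ρ, ⟨hρ, hρm⟩, -⟩ := fibGrpd_fac h𝒴 m' (y.map (top a) ≫ i.hom)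
      (eqToHom ((y.w_obj a).trans (f.w_obj x').symm)) (by rw [htop]; simp [a, c])
    haveI : IsIso ρ :=
      haveI : IsIso (𝒴.p.map ρ) := by rw [hρ]; infer_instance
      fibGrpd_isIso h𝒴 ρ
    let w : (fp y f).obj := fpMk a x' (asIso ρ) (vert_change 𝒴.p _ (vert_of_map_eq 𝒴.p hρ) (y.w_obj a))
    obtain ⟨ψ, -, hψ⟩ := ez w
    have hwψ : y.map ψ.hom.fst ≫ z.obj.iso.hom = ρ ≫ f.map ψ.hom.snd := ψ.hom.w
    have key : f.map ψ.hom.snd ≫ m = m' := by
      rw [← cancel_epi ρ, ← reassoc_of% hwψ, hρm]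
      simp only [m, Iso.hom_inv_id_assoc]
      rw [← y.toFunctor.map_comp_assoc]
      congr 2
      exact Over.OverMorphism.ext (by simp [top]; exact Over.w ψ.hom.fst)
    refine ⟨ψ.hom.snd, key, fun κ hκ => ?_⟩
    have hκp : 𝒳.p.map κ ≫ eqToHom ezb ≫ z.obj.fst.hom = c := by
      have h := congrArg 𝒴.p.map hκ
      rw [𝒴.p.map_comp, hmp, based_map f] at h
      simp only [Category.assoc, eqToHom_trans_assoc, eqToHom_refl, Category.id_comp] at h
      simp only [c, ← h]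
      simp
    let φ₁ : a ⟶ z.obj.fst := Over.homMk (𝒳.p.map κ ≫ eqToHom ezb) (by
      show (_ ≫ _) ≫ z.obj.fst.hom = c
      rw [Category.assoc, hκp])
    have hw : y.map φ₁ ≫ z.obj.iso.hom = ρ ≫ f.map κ := by
      refine fibGrpd_ext h𝒴 m ?_ ?_
      · rw [𝒴.p.map_comp, 𝒴.p.map_comp, based_map y, based_map f, fp_iso_map z, hρ]
        simp [φ₁, a]
      · rw [Category.assoc, Category.assoc, hκ, hρm]
        simp only [m, Iso.hom_inv_id_assoc]
        rw [← y.toFunctor.map_comp_assoc]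
        congr 2
        exact Over.OverMorphism.ext (show (𝒳.p.map κ ≫ eqToHom ezb) ≫ z.obj.fst.hom = c by rw [Category.assoc, hκp])
    exact congrArg (fun ξ => ξ.hom.snd) (hψ (fpHom φ₁ κ hw : w ⟶ z) trivial)
  · show P (eqToHom (f.w_obj z.obj.snd).symm ≫ 𝒴.p.map m ≫ eqToHom (bot.w_obj b)).left
    let j := appIso jΦ (ofSchTop W)
    have hj : z.obj.fst.hom = j.hom.left ≫ k := by
      have hw' := Over.w j.hom
      refine hw'.symm.trans (congrArg (j.hom.left ≫ ·) ?_)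
      show (((AlgSt.spMapOfOver (BasedFunctor.comp E (fpFst y f))).hom.app (op W)) ⟨𝟙 W⟩).down = k
      rw [eΦ]
      exact Category.id_comp k
    haveI : IsIso j.hom.left := inferInstanceAs (IsIso ((Over.forget T).map j.hom))
    rw [hmp]
    simp only [Category.assoc, eqToHom_trans_assoc, eqToHom_trans, eqToHom_refl, Category.comp_id]
    rw [hj, ← Category.assoc, Over.comp_left, P.cancel_left_of_respectsIso]
    exact hkP

end Groth.Agent.Stk19b.Theta
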