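import Mathlib.AlgebraicGeometry.AffineScheme
import Mathlib.AlgebraicGeometry.Morphisms.Flat
import Mathlib.RingTheory.Regular.Flat

/-! Sections on a union of two basic opens cut out by a regular sequence; maps to affine schemes. -/

set_option autoImplicit false

universe u

open CategoryTheory AlgebraicGeometry Opposite TopologicalSpace

namespace Groth.Agent.Stk19b.Theta

theorem dvd_of_dvd_pow_mul {A : Type*} [CommRing A] {a b : A} (ha : IsRegular a)
    (hab : ∀ x, a ∣ b * x → a ∣ x) (n m : ℕ) {x : A} (h : a ^ n ∣ b ^ m * x) : a ^ n ∣ x := by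
  induction n generalizing x with
  | zero => simp
  | succ n ih =>
    have h1 : a ∣ x := by
      have h0 : a ∣ b ^ m * x := dvd_trans (dvd_pow_self a n.succ_ne_zero) h
      clear h ih
      induction m generalizing x with
      | zero => simpa using h0
      | succ m ihm => exact hab x (ihm (by rwa [pow_succ, mul_assoc] at h0))
    obtain ⟨x', rfl⟩ := h1
    obtain ⟨c, hc⟩ := h
    have h2 : b ^ m * x' = a ^ n * c := ha.left (by
      show a * (b ^ m * x') = a * (a ^ n * c)
      rw [mul_left_comm, hc, pow_succ', mul_assoc])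
    rw [pow_succ']
    exact mul_dvd_mul_left a (ih ⟨c, h2⟩)

variable {X : Scheme.{u}} [IsAffine X]

theorem injective_res {a : Γ(X, ⊤)} (ha : IsRegular a) {V : X.Opens} (hV : X.basicOpen a ≤ V) :
    Function.Injective (X.presheaf.map (homOfLE le_top : V ⟶ ⊤).op) := by
  haveI := (isAffineOpen_top X).isLocalization_basicOpen a
  have h : Function.Injective (algebraMap Γ(X, ⊤) Γ(X, X.basicOpen a)) :=
    IsLocalization.injective _ (Submonoid.powers_le.mpr ha.mem_nonZeroDivisors)
  intro x y e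
  refine h ?_
  show X.presheaf.map (homOfLE (X.basicOpen_le a)).op x = X.presheaf.map (homOfLE (X.basicOpen_le a)).op y
  rw [← homOfLE_comp hV le_top, op_comp, X.presheaf.map_comp]
  exact congrArg (X.presheaf.map (homOfLE hV).op) e

theorem bijective_res {a b : Γ(X, ⊤)} (ha : IsRegular a) (hb : IsRegular b) (hab : ∀ x, a ∣ b * x → a ∣ x) :
    Function.Bijective (X.presheaf.map (homOfLE le_top : X.basicOpen a ⊔ X.basicOpen b ⟶ ⊤).op) := by
  refine ⟨injective_res ha le_sup_left, fun s => ?_⟩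
  let V := X.basicOpen a ⊔ X.basicOpen b
  let sa := X.presheaf.map (homOfLE (le_sup_left : X.basicOpen a ≤ V)).op s
  let sb := X.presheaf.map (homOfLE (le_sup_right : X.basicOpen b ≤ V)).op s
  haveI := (isAffineOpen_top X).isLocalization_basicOpen a
  haveI := (isAffineOpen_top X).isLocalization_basicOpen b
  obtain ⟨⟨p, ⟨_, n, rfl⟩⟩, hp⟩ := IsLocalization.surj (Submonoid.powers a) sa
  obtain ⟨⟨q, ⟨_, m, rfl⟩⟩, hq⟩ := IsLocalization.surj (Submonoid.powers b) sb
  have hpq : p * b ^ m = q * a ^ n := by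
    refine injective_res (V := X.basicOpen a ⊓ X.basicOpen b) (ha.mul hb) (X.basicOpen_mul a b).le ?_
    have e1 := congrArg (X.presheaf.map (homOfLE (inf_le_left : X.basicOpen a ⊓ X.basicOpen b ≤ X.basicOpen a)).op) hp
    have e2 := congrArg (X.presheaf.map (homOfLE (inf_le_right : X.basicOpen a ⊓ X.basicOpen b ≤ X.basicOpen b)).op) hq
    simp only [sa, sb, RingHom.algebraMap_toAlgebra, map_mul, ← ConcreteCategory.comp_apply, ← X.presheaf.map_comp,
      ← op_comp, homOfLE_comp, map_pow] at e1 e2 ⊢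
    rw [← e1, ← e2]
    ring
  obtain ⟨r, hr⟩ : a ^ n ∣ p :=
    dvd_of_dvd_pow_mul ha hab n m ⟨q, by rw [mul_comm (b ^ m) p, hpq, mul_comm]⟩
  have hq' : q = b ^ m * r := (ha.pow n).left (show a ^ n * q = a ^ n * (b ^ m * r) by
    rw [mul_comm (a ^ n) q, ← hpq, hr]; ring)
  refine ⟨r, TopCat.Sheaf.eq_of_locally_eq₂ X.sheaf (homOfLE le_sup_left) (homOfLE le_sup_right) le_rfl _ _ ?_ ?_⟩
  · have hu : IsUnit (algebraMap Γ(X, ⊤) Γ(X, X.basicOpen a) (a ^ n)) :=
      IsLocalization.map_units _ (⟨_, n, rfl⟩ : Submonoid.powers a)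
    refine (hu.mul_left_inj.mp ?_ : _ = sa)
    show X.presheaf.map _ (X.presheaf.map _ r) * _ = _
    rw [hp, ← ConcreteCategory.comp_apply, ← X.presheaf.map_comp, hr, map_mul, mul_comm]
    rfl
  · have hu : IsUnit (algebraMap Γ(X, ⊤) Γ(X, X.basicOpen b) (b ^ m)) :=
      IsLocalization.map_units _ (⟨_, m, rfl⟩ : Submonoid.powers b)
    refine (hu.mul_left_inj.mp ?_ : _ = sb)
    show X.presheaf.map _ (X.presheaf.map _ r) * _ = _
    rw [hq, ← ConcreteCategory.comp_apply, ← X.presheaf.map_comp, hq', map_mul, mul_comm]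
    rfl

theorem isIso_ι_appTop {a b : Γ(X, ⊤)} (ha : IsRegular a) (hb : IsRegular b) (hab : ∀ x, a ∣ b * x → a ∣ x) :
    IsIso ((X.basicOpen a ⊔ X.basicOpen b).ι.appTop) := by
  have h : ∀ W : X.Opens, W = X.basicOpen a ⊔ X.basicOpen b →
      IsIso (X.presheaf.map (homOfLE le_top : W ⟶ ⊤).op) := by
    rintro W rfl
    exact (ConcreteCategory.isIso_iff_bijective _).mpr (bijective_res ha hb hab)
  rw [Scheme.Opens.ι_appTop]
  exact h _ (X.basicOpen a ⊔ X.basicOpen b).ι_image_top

omit [IsAffine X] in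
theorem existsUnique_extend {U Z : Scheme.{u}} [IsAffine Z] (ι : U ⟶ X) [IsIso ι.appTop] (g : U ⟶ Z) :
    ∃! s : X ⟶ Z, ι ≫ s = g := by
  refine ⟨X.toSpecΓ ≫ Spec.map (g.appTop ≫ inv ι.appTop) ≫ Z.isoSpec.inv, ?_, fun s hs => ?_⟩
  · show ι ≫ _ = g
    rw [Scheme.toSpecΓ_naturality_assoc, ← Spec.map_comp_assoc, Category.assoc, IsIso.inv_hom_id, Category.comp_id,
      ← Scheme.toSpecΓ_naturality_assoc, Scheme.toSpecΓ_isoSpec_inv, Category.comp_id]
  · rw [← cancel_mono Z.isoSpec.hom, Category.assoc, Category.assoc, Iso.inv_hom_id, Category.comp_id, ← hs]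
    simp [Scheme.isoSpec_hom, Scheme.toSpecΓ_naturality]

theorem hom_ext_of_regular {Z : Scheme.{u}} [IsAffine Z] {a : Γ(X, ⊤)} (ha : IsRegular a) {l l' : X ⟶ Z}
    (h : (X.basicOpen a).ι ≫ l = (X.basicOpen a).ι ≫ l') : l = l' := by
  refine ext_of_isAffine ?_
  have hi : Function.Injective (X.basicOpen a).ι.appTop := by
    rw [Scheme.Opens.ι_appTop]
    exact injective_res ha (le_of_eq (X.basicOpen a).ι_image_top.symm)
  ext x
  apply hi
  have := congrArg Scheme.Hom.appTop h
  exact congrArg (fun φ => φ x) this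

theorem regular_appTop {W : Scheme.{u}} [IsAffine W] (p : W ⟶ X) [Flat p] {a : Γ(X, ⊤)} (ha : IsRegular a) :
    IsRegular (p.appTop a) := by
  have hf : p.appTop.hom.Flat := HasRingHomProperty.appTop @Flat p inferInstance
  letI := p.appTop.hom.toAlgebra
  haveI : Module.Flat Γ(X, ⊤) Γ(W, ⊤) := hf
  have h : IsSMulRegular Γ(W, ⊤) (algebraMap Γ(X, ⊤) Γ(W, ⊤) a) := IsSMulRegular.of_flat ha.left
  exact ⟨h, fun x y e => h ((mul_comm _ x).trans (e.trans (mul_comm y _)))⟩

end Groth.Agent.Stk19b.Theta
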