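import Groth.Agent.Stk19b.Theta.Extend
import Groth.Agent.Stk19b.Theta.Affine
import Groth.Agent.Stk19b.Theta.Hartogs
import Groth.Agent.Stk19b.Quot.Atlas
import Groth.Agent.Stk19.FibGrpd2
import Groth.Agent.Stk19.Slice
import Groth.Prelude.Def_ThetaS

/-! Extension over the open substack of a quotient of an affine scheme. -/

set_option autoImplicit false
set_option linter.style.haveILetI false
set_option backward.isDefEq.respectTransparency false
set_option backward.isDefEq.respectTransparency.types false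

universe u

open CategoryTheory CategoryTheory.Limits AlgebraicGeometry MonoidalCategory CartesianMonoidalCategory MonObj GrpObj
open FibCat Groth.Agent.Stk19 Groth.Agent.Stk19b.QuotTriv

namespace Groth.Agent.Stk19b.Theta

variable {S' S : Scheme.{u}} (h : S' ⟶ S) {K : Precoverage Scheme.{u}} {G X : Over S'} [GrpObj G]
  {aX : AlgGrp.Action G X}

theorem isFibGrpd_overS [K.IsStableUnderBaseChange] : IsFibGrpd (ThetaS.overS h (AlgSt.QuotSt K G aX)).p :=
  fibGrpd_comp (Quot.isFibGrpd (K := K) (G := G) (aX := aX)) (fibGrpd_of_comp_overForget (by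
    rw [Over.mapForget_eq]
    exact (isFibSet_overForget S').1))

variable (aX) in
/-- A stable open subset. -/
def IsStable (U : X.left.Opens) : Prop :=
  ∀ ⦃Z : Over S'⦄ (g : Z ⟶ G) (x : Z ⟶ X),
    Set.range x.left ⊆ (U : Set X.left) → Set.range (smulPt aX g x).left ⊆ (U : Set X.left)

/-- The objects landing in an open subset. -/
def Lands (U : X.left.Opens) (A : AlgSt.QuotObj K G aX) : Prop := Set.range A.φ.left ⊆ (U : Set X.left)

variable (U : X.left.Opens)

/-- The inclusion of the open subset. -/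
def incl : (Over.mk (U.ι ≫ X.hom) : Over S') ⟶ X := Over.homMk U.ι

theorem range_incl : Set.range (incl U).left = (U : Set X.left) := U.range_ι

theorem lands_down {A A' : AlgSt.QuotObj K G aX} (m : A' ⟶ A) (hA : Lands U A) : Lands U A' := by
  have e : A'.φ.left = m.top.left ≫ A.φ.left := (congrArg CommaMorphism.left m.wφ).symm
  intro _ hy
  obtain ⟨z, rfl⟩ := hy
  rw [e]
  exact hA ⟨m.top.left z, rfl⟩

variable {U} [K.HasIsos]

theorem lands_triv (hU : IsStable aX U) {T : Over S'} (x : T ⟶ X) (hx : Set.range x.left ⊆ (U : Set X.left)) :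
    Lands U (triv K aX x) := by
  have e : (triv K aX x).φ = smulPt aX (fst G T) (snd G T ≫ x) := by
    show (G ◁ x) ≫ aX.act = _
    rw [whiskerLeft_eq]
  show Set.range (triv K aX x).φ.left ⊆ _
  rw [e]
  refine hU _ _ ?_
  rintro _ ⟨z, rfl⟩
  exact hx ⟨(snd G T).left z, rfl⟩

variable (U) [K.IsStableUnderBaseChange]

variable (hK : K ≤ Scheme.fpqcPrecoverage)

include hK in
theorem exists_cover [Flat G.hom] [LocallyOfFinitePresentation G.hom] (b : AlgSt.QuotObj K G aX) :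
    ∃ (b' : AlgSt.QuotObj K G aX) (n : b' ⟶ b) (_ : b' ⟶ triv K aX (𝟙 X)),
      Flat n.base.left ∧ LocallyOfFinitePresentation n.base.left ∧ Surjective n.base.left := by
  obtain ⟨n, hn, -⟩ := exists_hom_of_point b (𝟙 b.P) b.π (Category.id_comp _) b.φ (Category.id_comp _)
  obtain ⟨m, -, -⟩ := exists_hom_of_smul (K := K) (aX := aX) b.φ (𝟙 X) b.φ 1
    (by rw [Category.comp_id, smulPt_one])
  refine ⟨_, n, m, ?_, ?_, ?_⟩ <;> rw [hn]
  · exact Quot.π_prop hK @Flat AlgSpLib.descends_flat inferInstance b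
  · exact Quot.π_prop hK @LocallyOfFinitePresentation inferInstance inferInstance b
  · exact Quot.π_prop hK @Surjective inferInstance Quot.surjective_hom b

omit [K.IsStableUnderBaseChange] in
theorem exists_pair {p₁ p₂ : triv K aX (snd G X) ⟶ triv K aX (𝟙 X)} (hp₁ : p₁.base = aX.act)
    (hp₁t : p₁.top = lift (fst G (G ⊗ X) * (snd G (G ⊗ X) ≫ (fst G X)⁻¹)) (snd G (G ⊗ X) ≫ aX.act))
    (hp₂ : p₂.base = snd G X)
    (hp₂t : p₂.top = lift (fst G (G ⊗ X) * (snd G (G ⊗ X) ≫ 1)) (snd G (G ⊗ X) ≫ snd G X))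
    {c : AlgSt.QuotObj K G aX} (m₁ m₂ : c ⟶ triv K aX (𝟙 X)) : ∃ l, l ≫ p₁ = m₁ ∧ l ≫ p₂ = m₂ := by
  let f₁ : c.base ⟶ X := m₁.base
  let f₂ : c.base ⟶ X := m₂.base
  let t₂ : c.P ⟶ G ⊗ X := m₂.top
  have hsq : IsPullback t₂ c.π (snd G X) f₂ := m₂.cart
  have hc : (f₂ ≫ unitSec X) ≫ snd G X = 𝟙 _ ≫ f₂ := by
    rw [Category.assoc, lift_snd, Category.comp_id, Category.id_comp]
  let s : c.base ⟶ c.P := hsq.lift (f₂ ≫ unitSec X) (𝟙 _) hc
  have hsπ : s ≫ c.π = 𝟙 _ := hsq.lift_snd _ _ hc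
  have hst : s ≫ t₂ = f₂ ≫ unitSec X := hsq.lift_fst _ _ hc
  have hsφ : s ≫ c.φ = f₂ := by
    have e : t₂ ≫ (triv K aX (𝟙 X)).φ = c.φ := m₂.wφ
    rw [← e]
    exact (Category.assoc _ _ _).symm.trans ((congrArg (· ≫ (triv K aX (𝟙 X)).φ) hst).trans
      ((Category.assoc _ _ _).trans ((congrArg (f₂ ≫ ·) (unitSec_φ (K := K) (aX := aX) (𝟙 X))).trans
        (Category.comp_id _))))
  obtain ⟨θ, hθ, hθt⟩ := exists_hom_of_point c s (𝟙 _) hsπ f₂ hsφ
  haveI : IsIso θ.base := by rw [hθ]; exact IsIso.id _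
  haveI := isIso_of_base θ
  obtain ⟨g₁, hg₁, hg₁t⟩ := exists_smul_of_hom (θ ≫ m₁) f₁
    ((congrArg (· ≫ f₁) hθ).trans (Category.id_comp _))
  rw [Category.comp_id] at hg₁
  have ht₂ : (θ ≫ m₂).top = lift (fst G c.base) (snd G c.base ≫ f₂) := by
    show θ.top ≫ m₂.top = _
    rw [hθt, hom_top_smul]
    have e : (snd G c.base ≫ s) ≫ t₂ = lift (1 : G ⊗ c.base ⟶ G) (snd G c.base ≫ f₂) := by
      rw [Category.assoc, hst, comp_lift, comp_lift, MonObj.comp_one, MonObj.comp_one, Category.comp_id]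
    refine (congrArg (smulPt (triv K aX (𝟙 X)).act (fst G c.base)) e).trans ?_
    exact (triv_smul (K := K) (aX := aX) (𝟙 X) _ _ _).trans (by rw [_root_.mul_one])
  obtain ⟨l, hl, hlt⟩ := exists_hom_of_smul (K := K) (aX := aX) f₂ (snd G X) (lift g₁⁻¹ f₂) 1
    (by rw [lift_snd, smulPt_one])
  have hb : smulPt aX g₁⁻¹ f₂ = f₁ := by rw [← hg₁, smulPt_inv_smul]
  have h1 : l ≫ p₁ = θ ≫ m₁ := by
    refine AlgSt.QuotObj.hom_ext ?_ ?_
    · show l.base ≫ p₁.base = θ.base ≫ m₁.base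
      rw [hl, hp₁, hθ]
      exact hb.trans (Category.id_comp _).symm
    · show l.top ≫ p₁.top = (θ ≫ m₁).top
      rw [hg₁t, hlt, hp₁t]
      simp only [comp_lift, MonObj.comp_mul, MonObj.comp_one, GrpObj.comp_inv, lift_fst, lift_snd, lift_snd_assoc,
        Category.assoc, lift_fst_assoc, _root_.inv_inv, _root_.mul_one]
      congr 1
      rw [← hb, comp_smulPt, GrpObj.comp_inv]
  have h2 : l ≫ p₂ = θ ≫ m₂ := by
    refine AlgSt.QuotObj.hom_ext ?_ ?_
    · show l.base ≫ p₂.base = θ.base ≫ m₂.base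
      rw [hl, hp₂, hθ]
      exact (lift_snd _ _).trans (Category.id_comp _).symm
    · show l.top ≫ p₂.top = (θ ≫ m₂).top
      rw [ht₂, hlt, hp₂t]
      simp only [comp_lift, MonObj.comp_mul, MonObj.comp_one, lift_fst, lift_snd, lift_snd_assoc,
        _root_.mul_one]
  exact ⟨inv θ ≫ l, by rw [Category.assoc, h1, IsIso.inv_hom_id_assoc],
    by rw [Category.assoc, h2, IsIso.inv_hom_id_assoc]⟩

include hK in
theorem exists_fac (hU : IsStable aX U) {i : triv K aX (incl U) ⟶ triv K aX (𝟙 X)} (hi : i.base = incl U)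
    {a : AlgSt.QuotObj K G aX} (ha : Lands U a) (g : a ⟶ triv K aX (𝟙 X)) : ∃ g₀, g₀ ≫ i = g := by
  haveI : Surjective a.π.left := Quot.π_prop hK @Surjective inferInstance Quot.surjective_hom a
  let f : a.base ⟶ X := g.base
  let t : a.P ⟶ G ⊗ X := g.top
  have e : a.π ≫ f = smulPt aX (t ≫ fst G X)⁻¹ a.φ := by
    have hφ : a.φ = smulPt aX (t ≫ fst G X) (t ≫ snd G X) := by
      have hw : t ≫ ((G ◁ 𝟙 X) ≫ aX.act) = a.φ := g.wφ
      rw [← hw]
      rw [MonoidalCategory.whiskerLeft_id, Category.id_comp]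
      show _ = lift (t ≫ fst G X) (t ≫ snd G X) ≫ aX.act
      rw [← comp_lift, lift_fst_snd, Category.comp_id]
    rw [hφ, smulPt_inv_smul]
    exact g.cart.w.symm
  have hr : Set.range f.left ⊆ (U : Set X.left) := by
    rintro _ ⟨z, rfl⟩
    obtain ⟨w, rfl⟩ := a.π.left.surjective z
    have := hU (t ≫ fst G X)⁻¹ a.φ ha
    rw [← e] at this
    exact this ⟨w, rfl⟩
  let v : a.base.left ⟶ (U : Scheme.{u}) := IsOpenImmersion.lift U.ι f.left (by rwa [U.range_ι])
  have hv : v ≫ U.ι = f.left := IsOpenImmersion.lift_fac _ _ _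
  let f₀ : a.base ⟶ Over.mk (U.ι ≫ X.hom) := Over.homMk v (by
    show v ≫ U.ι ≫ X.hom = _
    rw [reassoc_of% hv, Over.w])
  obtain ⟨χ, ⟨-, hχ⟩, -⟩ := Quot.existsUnique_fac (K := K) i g f₀ (by
    rw [hi]
    exact Over.OverMorphism.ext hv)
  exact ⟨χ, hχ⟩

/-- Unique lifting against the open substack of objects landing in a stable open subset. -/
theorem liftsUniquely_lands [Flat G.hom] [LocallyOfFinitePresentation G.hom] [IsAffineHom G.hom] [IsAffine X.left]
    (hK : K ≤ Scheme.fpqcPrecoverage) (hU : IsStable aX U)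
    (hι : IsIso U.ι.appTop) (a : Γ(X.left, ⊤)) (ha : IsRegular a) (haU : X.left.basicOpen a ≤ U)
    (Q : AlgSt.QuotObj K G aX → Prop) (hQ : ∀ A, Q A ↔ Lands U A)
    {𝒳 𝒴 : AlgSt.Cat S} (f : 𝒳 ⥤ᵇ 𝒴) (h𝒳 : IsFibGrpd 𝒳.p) (h𝒴 : IsFibGrpd 𝒴.p)
    (hf : AlgSt.RepByAlgSpWith (AlgSp.RepWith @IsAffineHom) f) :
    LiftSq.LiftsUniquely (AlgSt.subIncl (ThetaS.overS h (AlgSt.QuotSt K G aX)) Q) f := by
  obtain rfl : Q = Lands U := funext fun A => propext (hQ A)
  refine liftsUniquely_of_extends (ℬ := ThetaS.overS h (AlgSt.QuotSt K G aX)) _ h𝒳 h𝒴 (isFibGrpd_overS h) fun bot => ?_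
  choose A hA using fun b => exists_uarr h𝒳 h𝒴 hf bot b
  refine ⟨A, ?_⟩
  obtain ⟨p₂, hp₂, hp₂t⟩ := exists_hom_of_smul (K := K) (aX := aX) (snd G X) (𝟙 X) (snd G X) 1
    (by rw [Category.comp_id, smulPt_one])
  obtain ⟨p₁, hp₁, hp₁t⟩ := exists_hom_of_smul (K := K) (aX := aX) (snd G X) (𝟙 X) aX.act (fst G X)⁻¹
    (by
      have hact : aX.act = smulPt aX (fst G X) (snd G X) := by
        show _ = lift (fst G X) (snd G X) ≫ aX.act
        rw [lift_fst_snd, Category.id_comp]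
      rw [Category.comp_id, hact, smulPt_inv_smul])
  obtain ⟨i, hi, -⟩ := exists_hom_of_smul (K := K) (aX := aX) (incl U) (𝟙 X) (incl U) 1
    (by rw [Category.comp_id, smulPt_one])
  obtain ⟨k, hk, -⟩ := exists_hom_of_smul (K := K) (aX := aX) (snd G _ ≫ incl U) (snd G X) (G ◁ incl U) 1
    (by rw [whiskerLeft_snd, smulPt_one])
  let D : Chart (ℬ := ThetaS.overS h (AlgSt.QuotSt K G aX)) (Lands U) :=
    { u := triv K aX (𝟙 X)
      r := triv K aX (snd G X)
      p₁ := p₁
      p₂ := p₂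
      cov := exists_cover hK
      pair := fun _ => exists_pair hp₁ hp₁t hp₂ hp₂t
      u₀ := triv K aX (incl U)
      i := i
      Qu₀ := lands_triv hU _ (range_incl U).le
      fac := fun _ hA => exists_fac U hK hU hi hA
      r₀ := triv K aX (snd G _ ≫ incl U)
      k := k
      Qr₀ := lands_triv hU _ (by
        rintro _ ⟨z, rfl⟩
        exact (range_incl U).le ⟨(snd G _).left z, rfl⟩)
      down := fun _ _ m hA => lands_down U m hA }
  refine extends_of_chart A h𝒳 h𝒴 (isFibGrpd_overS h) D ?_ ?_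
  · intro g hg
    let Zu := (Z A (triv K aX (𝟙 X))).left
    let q : Zu ⟶ X.left := (prj A (triv K aX (𝟙 X))).left
    haveI : IsAffineHom q := hA _
    haveI : IsAffine Zu := isAffine_of_isAffineHom q
    let g' : (U : Scheme.{u}) ⟶ Zu := g.left
    have hg' : g' ≫ q = U.ι := (congrArg CommaMorphism.left hg).trans (congrArg CommaMorphism.left hi)
    obtain ⟨s, hs, hsu⟩ := existsUnique_extend U.ι g'
    have hsp : s ≫ q = 𝟙 X.left := by
      refine (existsUnique_extend U.ι U.ι).unique ?_ (Category.comp_id _)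
      show U.ι ≫ s ≫ q = U.ι
      rw [← Category.assoc, hs, hg']
    let s' : (ThetaS.overS h (AlgSt.QuotSt K G aX)).p.obj (triv K aX (𝟙 X)) ⟶ Z A (triv K aX (𝟙 X)) :=
      Over.homMk s (by
        rw [← Over.w (prj A (triv K aX (𝟙 X)))]
        exact (Category.assoc _ _ _).symm.trans ((congrArg (· ≫ _) hsp).trans (Category.id_comp _)))
    have hib : i.base.left = U.ι := congrArg CommaMorphism.left hi
    refine ⟨s', ⟨Over.OverMorphism.ext hsp, Over.OverMorphism.ext ((congrArg (· ≫ s) hib).trans hs)⟩, fun t ht => ?_⟩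
    exact Over.OverMorphism.ext (hsu _ ((congrArg (· ≫ t.left) hib).symm.trans (congrArg CommaMorphism.left ht.2)))
  · intro s s' _ _ hkss
    let GX := (G ⊗ X).left
    let q₂ : GX ⟶ X.left := (snd G X).left
    haveI : IsAffineHom q₂ := MorphismProperty.of_isPullback (Quot.isPullback_left_snd X) inferInstance
    haveI : Flat q₂ := MorphismProperty.of_isPullback (Quot.isPullback_left_snd X) inferInstance
    haveI : IsAffine GX := isAffine_of_isAffineHom q₂
    let Zr := (Z A (triv K aX (snd G X))).left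
    let q : Zr ⟶ GX := (prj A (triv K aX (snd G X))).left
    haveI : IsAffineHom q := hA _
    haveI : IsAffine Zr := isAffine_of_isAffineHom q
    let l : GX ⟶ Zr := s.left
    let l' : GX ⟶ Zr := s'.left
    refine Over.OverMorphism.ext (hom_ext_of_regular (regular_appTop q₂ ha) ?_ : l = l')
    let D' := GX.basicOpen (q₂.appTop a)
    have hDr' : Set.range (D'.ι ≫ q₂) ⊆ Set.range U.ι := by
      rintro _ ⟨z, rfl⟩
      rw [U.range_ι]
      exact haU ((Scheme.preimage_basicOpen_top q₂ a).ge z.2)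
    let v := IsOpenImmersion.lift U.ι (D'.ι ≫ q₂) hDr'
    have hv : v ≫ (incl U).left = D'.ι ≫ q₂ := IsOpenImmersion.lift_fac _ _ _
    have hsq := (AlgSt.isPullback_whiskerLeft (G := G) (incl U)).map (Over.forget S')
    let j : (D' : Scheme.{u}) ⟶ (G ⊗ Over.mk (U.ι ≫ X.hom)).left := hsq.lift D'.ι v hv.symm
    have hj : j ≫ (G ◁ incl U).left = D'.ι := hsq.lift_fst _ _ _
    have hk' : (G ◁ incl U).left ≫ l = (G ◁ incl U).left ≫ l' :=
      ((congrArg (· ≫ l) (congrArg CommaMorphism.left hk)).symm.trans (congrArg CommaMorphism.left hkss)).trans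
        (congrArg (· ≫ l') (congrArg CommaMorphism.left hk))
    show D'.ι ≫ l = D'.ι ≫ l'
    rw [← hj, Category.assoc, hk', Category.assoc]

end Groth.Agent.Stk19b.Theta
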