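import Groth.Agent.Stk19b.Theta.QuotChart
import Mathlib.RingTheory.FiniteType
import Mathlib.RingTheory.MvPolynomial.Basic
import Mathlib.Algebra.MvPolynomial.Division
import Mathlib.Algebra.Polynomial.Eval.Coeff
import Mathlib.RingTheory.Polynomial.Basic

/-! The two punctured affine schemes with their actions of the multiplicative group. -/

set_option autoImplicit false
set_option linter.style.haveILetI false
set_option backward.isDefEq.respectTransparency false
set_option backward.isDefEq.respectTransparency.types false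

universe u

open CategoryTheory CategoryTheory.Limits AlgebraicGeometry MonoidalCategory CartesianMonoidalCategory Opposite
open Groth.Agent.Stk19 Groth.Agent.Stk19b.QuotTriv
open scoped Polynomial

namespace Groth.Agent.Stk19b.Theta

variable {R : Type u} [CommRing R]

/-- An element as a global function. -/
noncomputable abbrev fn {B : Type u} [CommRing B] [Algebra R B] (q : B) : Γ((CoactBr.sp R B).left, ⊤) :=
  (Scheme.ΓSpecIso (CommRingCat.of B)).inv q

/-- The union of two basic opens. -/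
noncomputable abbrev twoOpen {B : Type u} [CommRing B] [Algebra R B] (a b : B) : (CoactBr.sp R B).left.Opens :=
  (CoactBr.sp R B).left.basicOpen (fn (R := R) a) ⊔ (CoactBr.sp R B).left.basicOpen (fn (R := R) b)

theorem isRegular_fn {B : Type u} [CommRing B] [Algebra R B] {q : B} (hq : IsRegular q) :
    IsRegular (fn (R := R) q) := by
  have hl : IsLeftRegular (fn (R := R) q) := fun x y e => by
    let φ := (Scheme.ΓSpecIso (CommRingCat.of B)).commRingCatIsoToRingEquiv
    have hφ : φ (fn (R := R) q) = q := φ.apply_symm_apply q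
    refine φ.injective (hq.left (show q * φ x = q * φ y from ?_))
    rw [← hφ, ← map_mul, ← map_mul]
    exact congrArg φ e
  exact ⟨hl, fun x y e => hl ((mul_comm _ x).trans (e.trans (mul_comm y _)))⟩

theorem dvd_fn {B : Type u} [CommRing B] [Algebra R B] {a b : B} (h : ∀ x, a ∣ b * x → a ∣ x)
    (x : Γ((CoactBr.sp R B).left, ⊤)) (hx : fn (R := R) a ∣ fn (R := R) b * x) : fn (R := R) a ∣ x := by
  let φ := (Scheme.ΓSpecIso (CommRingCat.of B)).commRingCatIsoToRingEquiv
  have ha : φ (fn (R := R) a) = a := φ.apply_symm_apply a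
  have hb : φ (fn (R := R) b) = b := φ.apply_symm_apply b
  have h' := map_dvd φ hx
  rw [map_mul, ha, hb] at h'
  have h'' := map_dvd φ.symm (h _ h')
  rwa [φ.symm_apply_apply, ← ha, φ.symm_apply_apply] at h''

/-- Morphisms between spectra over `Spec R` are algebra maps. -/
theorem exists_pt {B K : Type u} [CommRing B] [CommRing K] [Algebra R B] [Algebra R K]
    (l : CoactBr.sp R K ⟶ CoactBr.sp R B) : ∃ φ : B →ₐ[R] K, CoactBr.pt φ = l := by
  obtain ⟨ψ, hψ⟩ := Spec.map_surjective l.left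
  have hw := Over.w l
  rw [← hψ] at hw
  have hw' : CommRingCat.ofHom (algebraMap R B) ≫ ψ = CommRingCat.ofHom (algebraMap R K) := by
    refine Spec.map_injective ?_
    rw [Spec.map_comp]
    exact hw
  refine ⟨{ toRingHom := ψ.hom, commutes' := fun r => ?_ }, Over.OverMorphism.ext ?_⟩
  · exact congrArg (fun χ => χ r) hw'
  · exact hψ

theorem pt_mem_basicOpen {B K : Type u} [CommRing B] [Algebra R B] [Field K] [Algebra R K] (φ : B →ₐ[R] K) (q : B)
    (z : (CoactBr.sp R K).left) :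
    (CoactBr.pt φ).left z ∈ (CoactBr.sp R B).left.basicOpen (fn (R := R) q) ↔ φ q ≠ 0 := by
  show Spec.map (CommRingCat.ofHom φ.toRingHom) z ∈ (Spec (CommRingCat.of B)).basicOpen
    ((Scheme.ΓSpecIso (CommRingCat.of B)).inv q) ↔ _
  rw [basicOpen_eq_of_affine]
  show q ∉ (Spec.map (CommRingCat.ofHom φ.toRingHom) z).asIdeal ↔ _
  let z' : PrimeSpectrum K := z
  haveI : z'.asIdeal.IsPrime := z'.isPrime
  have hz : z'.asIdeal = ⊥ := (Ideal.eq_bot_or_top _).resolve_right z'.isPrime.ne_top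
  show φ q ∉ z'.asIdeal ↔ _
  rw [hz]
  rfl

theorem pt_mem_twoOpen {B K : Type u} [CommRing B] [Algebra R B] [Field K] [Algebra R K] (φ : B →ₐ[R] K) (a b : B)
    (z : (CoactBr.sp R K).left) :
    (CoactBr.pt φ).left z ∈ twoOpen (R := R) a b ↔ φ a ≠ 0 ∨ φ b ≠ 0 :=
  (or_congr (pt_mem_basicOpen φ a z) (pt_mem_basicOpen φ b z))

/-- Stability of a union of two basic opens, tested on points in fields. -/
theorem isStable_twoOpen {B : Type u} [CommRing B] [Algebra R B]
    {aX : AlgGrp.Action (ThetaS.Gm R) (CoactBr.sp R B)} (a b : B)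
    (h : ∀ (K : Type u) [Field K] [Algebra R K] (lam : ThetaS.Lau R →ₐ[R] K) (x : B →ₐ[R] K),
      (x a ≠ 0 ∨ x b ≠ 0) → ∃ x', lift (CoactBr.pt lam) (CoactBr.pt x) ≫ aX.act = CoactBr.pt x' ∧
        (x' a ≠ 0 ∨ x' b ≠ 0)) :
    IsStable aX (twoOpen (R := R) a b) := by
  intro Z g x hx
  rintro _ ⟨z, rfl⟩
  let K := Z.left.residueField z
  let ψ : CommRingCat.of R ⟶ K := Spec.preimage (Z.left.fromSpecResidueField z ≫ Z.hom)
  letI : Algebra R K := ψ.hom.toAlgebra
  let e : CoactBr.sp R K ⟶ Z := Over.homMk (Z.left.fromSpecResidueField z) (Spec.map_preimage _).symm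
  obtain ⟨lam, hlam⟩ := exists_pt (e ≫ g : CoactBr.sp R K ⟶ CoactBr.sp R (ThetaS.Lau R))
  obtain ⟨xx, hxx⟩ := exists_pt (e ≫ x : CoactBr.sp R K ⟶ CoactBr.sp R B)
  let w : (CoactBr.sp R K).left := (default : PrimeSpectrum K)
  have hw : e.left w = z := Scheme.fromSpecResidueField_apply z w
  have h1 : xx a ≠ 0 ∨ xx b ≠ 0 := by
    rw [← pt_mem_twoOpen xx a b w, hxx]
    exact hx ⟨e.left w, rfl⟩
  obtain ⟨x', hx', h2⟩ := h K lam xx h1
  have e1 : e ≫ smulPt aX g x = CoactBr.pt x' := by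
    rw [comp_smulPt, ← hx', hlam, hxx]
  rw [← hw]
  show (e ≫ smulPt aX g x).left w ∈ twoOpen (R := R) a b
  rw [e1, pt_mem_twoOpen]
  exact h2

variable (R) in
theorem gm_flat : Flat (ThetaS.Gm R).hom :=
  (HasRingHomProperty.Spec_iff (P := @Flat)).2 (RingHom.flat_algebraMap_iff.2 inferInstance)

variable (R) in
theorem gm_lfp [IsNoetherianRing R] : LocallyOfFinitePresentation (ThetaS.Gm R).hom :=
  (HasRingHomProperty.Spec_iff (P := @LocallyOfFinitePresentation)).2
    (RingHom.finitePresentation_algebraMap.2 (Algebra.FinitePresentation.of_finiteType.1 inferInstance))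

theorem gm_affine : IsAffineHom (ThetaS.Gm R).hom :=
  haveI : IsAffine (ThetaS.Gm R).left := inferInstanceAs (IsAffine (Spec _))
  inferInstance

/-- Landing in the union of two basic opens. -/
theorem lands_iff {B : Type u} [CommRing B] [Algebra R B] {K : Precoverage Scheme.{u}}
    {aX : AlgGrp.Action (ThetaS.Gm R) (CoactBr.sp R B)} (A : AlgSt.QuotObj K (ThetaS.Gm R) aX) (a b : B) :
    A.P.left.basicOpen (A.φ.left.appTop (fn (R := R) a)) ⊔ A.P.left.basicOpen (A.φ.left.appTop (fn (R := R) b)) = ⊤ ↔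
      Lands (twoOpen (R := R) a b) A := by
  rw [← Scheme.preimage_basicOpen_top, ← Scheme.preimage_basicOpen_top, eq_top_iff]
  constructor
  · rintro h _ ⟨p, rfl⟩
    exact h (TopologicalSpace.Opens.mem_top p)
  · exact fun h p _ => h ⟨p, rfl⟩

section line

variable [IsDomain R] {ϖ : R}

theorem line_regular_X : IsRegular (Polynomial.X : R[X]) := IsRegular.of_ne_zero Polynomial.X_ne_zero

theorem line_regular_C (hϖ : ϖ ≠ 0) : IsRegular (Polynomial.C ϖ : R[X]) :=
  IsRegular.of_ne_zero (Polynomial.C_ne_zero.2 hϖ)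

theorem line_dvd (hϖ : ϖ ≠ 0) (p : R[X]) (h : Polynomial.X ∣ Polynomial.C ϖ * p) : Polynomial.X ∣ p := by
  rw [Polynomial.X_dvd_iff, Polynomial.coeff_C_mul] at h
  exact Polynomial.X_dvd_iff.2 ((mul_eq_zero.1 h).resolve_left hϖ)

omit [IsDomain R] in
theorem line_stable : IsStable (ThetaS.lineAction R) (twoOpen (R := R) (Polynomial.X : R[X]) (Polynomial.C ϖ)) := by
  refine isStable_twoOpen _ _ fun K _ _ lam x hx => ?_
  have hl : x = ThetaS.linePt (x Polynomial.X) := Polynomial.algHom_ext (by simp)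
  refine ⟨ThetaS.linePt (lam (ThetaS.zPow R 1) * x Polynomial.X), ?_, ?_⟩
  · conv_lhs => rw [hl]
    exact ThetaS.lineAction_pt lam _
  · have hu : lam (ThetaS.zPow R 1) * lam (ThetaS.zPow R (-1)) = 1 := by
      rw [← map_mul, ThetaS.zPow_mul, show (1 : ℤ) + -1 = 0 by norm_num, ThetaS.zPow_zero, map_one]
    rcases hx with hx | hx
    · left
      simp [left_ne_zero_of_mul_eq_one hu, hx]
    · right
      have hc : x (Polynomial.C ϖ) = algebraMap R K ϖ := x.commutes ϖ
      simpa [hc] using hx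

end line

section st

open MvPolynomial (X C)

variable {π : R}

theorem exists_split (c : MvPolynomial (Fin 2) R) :
    ∃ c₁ c₂, c = C (MvPolynomial.constantCoeff c) + X 0 * c₁ + X 1 * c₂ := by
  induction c using MvPolynomial.induction_on with
  | C r => exact ⟨0, 0, by simp⟩
  | add p q hp hq =>
    obtain ⟨p₁, p₂, hp⟩ := hp
    obtain ⟨q₁, q₂, hq⟩ := hq
    refine ⟨p₁ + q₁, p₂ + q₂, ?_⟩
    conv_lhs => rw [hp, hq]
    simp only [map_add]
    ring
  | mul_X p i _ =>
    fin_cases i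
    · exact ⟨p, 0, by simp; ring⟩
    · exact ⟨0, p, by simp; ring⟩

variable [IsDomain R]

theorem st_regular_X (hπ : π ≠ 0) (i : Fin 2) :
    IsRegular (Ideal.Quotient.mk (Ideal.span {(X 0 * X 1 - C π : MvPolynomial (Fin 2) R)}) (X i)) := by
  have hp : Prime (X i : MvPolynomial (Fin 2) R) := MvPolynomial.X_prime
  have hl : ∀ x : ThetaS.STRing R π,
      Ideal.Quotient.mk (Ideal.span {(X 0 * X 1 - C π : MvPolynomial (Fin 2) R)}) (X i) * x = 0 → x = 0 := by
    intro x hx
    obtain ⟨p, rfl⟩ := Ideal.Quotient.mk_surjective x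
    rw [← map_mul, Ideal.Quotient.eq_zero_iff_dvd] at hx
    obtain ⟨c, hc⟩ := hx
    rcases hp.dvd_or_dvd ⟨p, hc.symm⟩ with h | ⟨c', rfl⟩
    · exfalso
      apply hπ
      have h' := map_dvd MvPolynomial.constantCoeff h
      simpa using h'
    · rw [Ideal.Quotient.eq_zero_iff_dvd]
      refine ⟨c', mul_left_cancel₀ hp.ne_zero ?_⟩
      rw [hc]
      ring
  exact isRegular_iff_eq_zero_of_mul.2 ⟨hl, fun x hx => hl x ((mul_comm _ x).trans hx)⟩

theorem st_dvd (hπ : π ≠ 0) (x : ThetaS.STRing R π) (h : ThetaS.sFn R π ∣ ThetaS.tFn R π * x) :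
    ThetaS.sFn R π ∣ x := by
  obtain ⟨q', hq⟩ := h
  obtain ⟨p, rfl⟩ := Ideal.Quotient.mk_surjective x
  obtain ⟨q, rfl⟩ := Ideal.Quotient.mk_surjective q'
  rw [← map_mul, ← map_mul, Ideal.Quotient.eq, Ideal.mem_span_singleton] at hq
  obtain ⟨c, hc⟩ := hq
  have h0 : MvPolynomial.constantCoeff c = 0 := by
    have h := congrArg MvPolynomial.constantCoeff hc
    simp only [map_sub, map_mul, MvPolynomial.constantCoeff_X, MvPolynomial.constantCoeff_C] at h
    simpa [hπ] using h.symm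
  obtain ⟨c₁, c₂, hc'⟩ := exists_split c
  rw [h0, map_zero, zero_add] at hc'
  obtain ⟨r, hr⟩ : (X 0 : MvPolynomial (Fin 2) R) ∣ p + C π * c₂ :=
    ((MvPolynomial.X_prime (i := (0 : Fin 2))).dvd_or_dvd
      (show X 0 ∣ X 1 * (p + C π * c₂) from ⟨q + X 1 * (X 0 * c₁ + X 1 * c₂) - C π * c₁, by
        linear_combination hc + (X 0 * X 1 - C π) * hc'⟩)).resolve_left (by
      rintro ⟨d, hd⟩
      have := congrArg (MvPolynomial.eval ![(0 : R), 1]) hd
      simp at this)
  refine ⟨Ideal.Quotient.mk _ (r - X 1 * c₂), ?_⟩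
  rw [← map_mul, Ideal.Quotient.eq, Ideal.mem_span_singleton]
  exact ⟨c₂, by linear_combination hr⟩

omit [IsDomain R] in
theorem st_stable : IsStable (ThetaS.stAction R π) (twoOpen (R := R) (ThetaS.sFn R π) (ThetaS.tFn R π)) := by
  refine isStable_twoOpen _ _ fun K _ _ lam x hx => ?_
  have hab : x (ThetaS.sFn R π) * x (ThetaS.tFn R π) = algebraMap R K π := by
    rw [← map_mul, ThetaS.sFn_mul_tFn, AlgHom.commutes]
  have hl : x = ThetaS.stPt _ _ hab := ThetaS.stRing_algHom_ext (by simp) (by simp)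
  have hu : lam (ThetaS.zPow R 1) * lam (ThetaS.zPow R (-1)) = 1 := by
    rw [← map_mul, ThetaS.zPow_mul, show (1 : ℤ) + -1 = 0 by norm_num, ThetaS.zPow_zero, map_one]
  refine ⟨_, (congrArg (fun y => lift (CoactBr.pt lam) (CoactBr.pt y) ≫ (ThetaS.stAction R π).act) hl).trans
    (ThetaS.stAction_pt lam _ _ hab), ?_⟩
  rcases hx with hx | hx
  · left
    rw [ThetaS.stPt_sFn]
    exact mul_ne_zero (left_ne_zero_of_mul_eq_one hu) hx
  · right
    rw [ThetaS.stPt_tFn]
    exact mul_ne_zero (right_ne_zero_of_mul_eq_one hu) hx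

end st

variable [IsDomain R] [IsNoetherianRing R] {S : Scheme.{u}} (h : Spec (CommRingCat.of R) ⟶ S)
  {𝒳 𝒴 : AlgSt.Cat S} {f : 𝒳 ⥤ᵇ 𝒴}

theorem liftsUniquely_thetaIncl {ϖ : R} (hϖ : ϖ ≠ 0) (h𝒳 : FibCat.IsFibGrpd 𝒳.p) (h𝒴 : FibCat.IsFibGrpd 𝒴.p)
    (hf : AlgSt.RepByAlgSpWith (AlgSp.RepWith @IsAffineHom) f) :
    LiftSq.LiftsUniquely (ThetaS.thetaIncl Scheme.fppfPrecoverage R ϖ h) f := by
  haveI := gm_flat R
  haveI := gm_lfp R
  haveI := gm_affine (R := R)
  haveI := Quot.hasIsos_fppf.{u}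
  haveI : IsAffine (ThetaS.Line R).left := inferInstanceAs (IsAffine (Spec _))
  exact liftsUniquely_lands h (aX := ThetaS.lineAction R) (twoOpen (R := R) (Polynomial.X : R[X]) (Polynomial.C ϖ))
    Scheme.fppfPrecoverage_le_fpqcPrecoverage line_stable
    (isIso_ι_appTop (isRegular_fn line_regular_X) (isRegular_fn (line_regular_C hϖ)) (dvd_fn (line_dvd hϖ)))
    _ (isRegular_fn line_regular_X) le_sup_left _ (fun A => lands_iff A _ _) f h𝒳 h𝒴 hf

theorem liftsUniquely_stIncl {π : R} (hπ : π ≠ 0) (h𝒳 : FibCat.IsFibGrpd 𝒳.p) (h𝒴 : FibCat.IsFibGrpd 𝒴.p)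
    (hf : AlgSt.RepByAlgSpWith (AlgSp.RepWith @IsAffineHom) f) :
    LiftSq.LiftsUniquely (ThetaS.stIncl Scheme.fppfPrecoverage R π h) f := by
  haveI := gm_flat R
  haveI := gm_lfp R
  haveI := gm_affine (R := R)
  haveI := Quot.hasIsos_fppf.{u}
  haveI : IsAffine (ThetaS.STSch R π).left := inferInstanceAs (IsAffine (Spec _))
  exact liftsUniquely_lands h (aX := ThetaS.stAction R π) (twoOpen (R := R) (ThetaS.sFn R π) (ThetaS.tFn R π))
    Scheme.fppfPrecoverage_le_fpqcPrecoverage st_stable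
    (isIso_ι_appTop (isRegular_fn (st_regular_X hπ 0)) (isRegular_fn (st_regular_X hπ 1)) (dvd_fn (st_dvd hπ)))
    _ (isRegular_fn (st_regular_X hπ 0)) le_sup_left _ (fun A => lands_iff A _ _) f h𝒳 h𝒴 hf

end Groth.Agent.Stk19b.Theta
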