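import Groth.Agent.Stk19b.Theta.SplitTorsor
import Groth.Agent.NeronModel27.GaSmoothBase
import Mathlib.RingTheory.Regular.Flat

/-!
# The classifying stack of `𝔾_a` is not S-complete

The split torsor on the punctured two-branched stack does not extend: an extension would give on an affine
flat cover of `Spec R[s, t]/(st - π)` a function which is `0` on one axis and `1` on the other.
-/

set_option autoImplicit false
set_option linter.style.haveILetI false
set_option backward.isDefEq.respectTransparency false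
set_option backward.isDefEq.respectTransparency.types false

universe u

open CategoryTheory CategoryTheory.Limits AlgebraicGeometry MonoidalCategory CartesianMonoidalCategory MonObj Opposite
open TopologicalSpace
open Groth.Agent.Stk19 Groth.Agent.Stk19b.QuotTriv

namespace Groth.Agent.Stk19b.Theta.Split

theorem based_ext {S : Type*} [Category S] {𝒳 : BasedCategory S} {𝒴 : BasedCategory S} :
    ∀ F G : 𝒳 ⥤ᵇ 𝒴, F.toFunctor = G.toFunctor → F = G := by
  rintro ⟨_, _⟩ ⟨_, _⟩ rfl
  rfl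

theorem fn_mul {R : Type u} [CommRing R] {B : Type u} [CommRing B] [Algebra R B] (x y : B) :
    fn (R := R) (x * y) = fn (R := R) x * fn (R := R) y :=
  map_mul (Scheme.ΓSpecIso (CommRingCat.of B)).inv.hom x y

theorem dvd_of_flat {A B : Type u} [CommRing A] [CommRing B] (φ : A →+* B) (hφ : φ.Flat) {a b : A}
    (ha : IsRegular a) (hab : ∀ x, a ∣ b * x → a ∣ x) (x : B) (hx : φ a ∣ φ b * x) : φ a ∣ x := by
  letI := φ.toAlgebra
  haveI : Module.Flat A B := hφ
  have hreg : RingTheory.Sequence.IsWeaklyRegular A [a, b] := by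
    refine (RingTheory.Sequence.isWeaklyRegular_cons_iff A a [b]).2 ⟨ha.left,
      (RingTheory.Sequence.isWeaklyRegular_cons_iff _ b []).2 ⟨?_, RingTheory.Sequence.IsWeaklyRegular.nil _ _⟩⟩
    intro m m' e
    induction m using Submodule.Quotient.induction_on with
    | _ p =>
    induction m' using Submodule.Quotient.induction_on with
    | _ q =>
    simp only [← Submodule.Quotient.mk_smul, Submodule.Quotient.eq, Submodule.mem_smul_pointwise_iff_exists,
      Submodule.mem_top, true_and, smul_eq_mul] at e ⊢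
    obtain ⟨c, hc⟩ := e
    obtain ⟨d, hd⟩ := hab (p - q) ⟨c, by linear_combination -hc⟩
    exact ⟨d, hd.symm⟩
  have h2 := ((RingTheory.Sequence.isWeaklyRegular_cons_iff B _ _).1
    (hreg.of_flat (S := B))).2
  have h3 := ((RingTheory.Sequence.isWeaklyRegular_cons_iff _ _ _).1 h2).1
  obtain ⟨c, hc⟩ := hx
  have e := @h3 (Submodule.Quotient.mk x) 0 (by
    simp only [smul_zero, ← Submodule.Quotient.mk_smul]
    rw [Submodule.Quotient.mk_eq_zero, Submodule.mem_smul_pointwise_iff_exists]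
    exact ⟨c, trivial, (hc.symm : φ a * c = φ b * x)⟩)
  rw [Submodule.Quotient.mk_eq_zero, Submodule.mem_smul_pointwise_iff_exists] at e
  obtain ⟨d, -, hd⟩ := e
  exact ⟨d, (hd.symm : x = φ a * d)⟩

theorem exists_pow_mul_of_basicOpen_le {W : Scheme.{u}} [IsAffine W] {x a : Γ(W, ⊤)}
    (h : W.basicOpen x ≤ W.basicOpen a) : ∃ n : ℕ, a ∣ x ^ n := by
  have h' : PrimeSpectrum.basicOpen x ≤ PrimeSpectrum.basicOpen a := by
    intro p hp
    obtain ⟨w, rfl⟩ := W.isoSpec.hom.homeomorph.surjective p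
    have e : ∀ f : Γ(W, ⊤), W.isoSpec.hom w ∈ PrimeSpectrum.basicOpen f ↔ w ∈ W.basicOpen f := fun f => by
      rw [← Scheme.toSpecΓ_preimage_basicOpen W f]
      rfl
    exact (e a).2 (h ((e x).1 hp))
  obtain ⟨n, hn⟩ := (PrimeSpectrum.basicOpen_le_basicOpen_iff x a).1 h'
  exact ⟨n, Ideal.mem_span_singleton.1 hn⟩

variable {R : Type u} [CommRing R] (π : R)

theorem t_stable :
    IsStable (ThetaS.stAction R π) (twoOpen (R := R) (ThetaS.tFn R π) (ThetaS.tFn R π)) := by
  refine isStable_twoOpen _ _ fun K _ _ lam x hx => ?_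
  have hab : x (ThetaS.sFn R π) * x (ThetaS.tFn R π) = algebraMap R K π := by
    rw [← map_mul, ThetaS.sFn_mul_tFn, AlgHom.commutes]
  have hl : x = ThetaS.stPt _ _ hab := ThetaS.stRing_algHom_ext (by simp) (by simp)
  have hu : lam (ThetaS.zPow R 1) * lam (ThetaS.zPow R (-1)) = 1 := by
    rw [← map_mul, ThetaS.zPow_mul, show (1 : ℤ) + -1 = 0 by norm_num, ThetaS.zPow_zero, map_one]
  refine ⟨_, (congrArg (fun y => lift (CoactBr.pt lam) (CoactBr.pt y) ≫ (ThetaS.stAction R π).act) hl).trans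
    (ThetaS.stAction_pt lam _ _ hab), Or.inl ?_⟩
  rw [ThetaS.stPt_tFn]
  exact mul_ne_zero (right_ne_zero_of_mul_eq_one hu) (hx.elim id id)

section Branches

variable [IsNoetherianRing R] (A : (ThetaS.STR Scheme.fppfPrecoverage R π).obj)

theorem π_open : IsOpenMap A.π.left := by
  haveI := gm_flat R
  haveI := gm_lfp R
  haveI : Flat A.π.left := Quot.π_prop Scheme.fppfPrecoverage_le_fpqcPrecoverage @Flat AlgSpLib.descends_flat
    inferInstance A
  haveI : LocallyOfFinitePresentation A.π.left :=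
    Quot.π_prop Scheme.fppfPrecoverage_le_fpqcPrecoverage @LocallyOfFinitePresentation inferInstance inferInstance A
  exact A.π.left.isOpenMap

omit [IsNoetherianRing R] in
theorem π_surj : Function.Surjective A.π.left := by
  haveI : Surjective A.π.left :=
    Quot.π_prop Scheme.fppfPrecoverage_le_fpqcPrecoverage @Surjective inferInstance Quot.surjective_hom A
  exact A.π.left.surjective

/-- The part of the base over which `f` does not vanish. -/
noncomputable def br (q : ThetaS.STRing R π) : A.base.left.Opens :=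
  ⟨A.π.left '' (A.P.left.basicOpen (A.φ.left.appTop (ThetaS.stFn q)) : Set A.P.left),
    π_open π A _ (A.P.left.basicOpen _).isOpen⟩

theorem br_cov (hA : ThetaS.MissesNode A) (x : A.base.left) :
    x ∈ br π A (ThetaS.sFn R π) ∨ x ∈ br π A (ThetaS.tFn R π) := by
  obtain ⟨p, rfl⟩ := π_surj π A x
  have hp : p ∈ (⊤ : A.P.left.Opens) := trivial
  have hA' : A.P.left.basicOpen (A.φ.left.appTop (ThetaS.stFn (ThetaS.sFn R π))) ⊔
      A.P.left.basicOpen (A.φ.left.appTop (ThetaS.stFn (ThetaS.tFn R π))) = ⊤ := hA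
  rw [← hA'] at hp
  exact (TopologicalSpace.Opens.mem_sup.1 hp).imp (fun h => ⟨p, h, rfl⟩) fun h => ⟨p, h, rfl⟩

theorem br_dis : br π A (ThetaS.sFn R π) ⊓ br π A (ThetaS.tFn R π) ≤ A.base.left.basicOpen (rho A.base.hom π) := by
  rintro x ⟨⟨p, hp, rfl⟩, ⟨p', hp', he⟩⟩
  obtain ⟨z, hz, hz'⟩ := Scheme.exists_preimage_of_isPullback (A.cart.map (Over.forget _)) p p' he.symm
  let O := (snd (ThetaS.Gm R) A.P).left ⁻¹ᵁ (A.P.left.basicOpen (A.φ.left.appTop (ThetaS.stFn (ThetaS.tFn R π))))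
  have hzO : z ∈ O := by
    show (snd (ThetaS.Gm R) A.P).left z ∈ A.P.left.basicOpen (A.φ.left.appTop (ThetaS.stFn (ThetaS.tFn R π)))
    rw [show (snd (ThetaS.Gm R) A.P).left z = p' from hz']
    exact hp'
  let i : Over.mk (O.ι ≫ (ThetaS.Gm R ⊗ A.P).hom) ⟶ ThetaS.Gm R ⊗ A.P := Over.homMk O.ι
  let g := i ≫ fst _ _
  let y := i ≫ snd _ _ ≫ A.φ
  have hy : Set.range y.left ⊆ (twoOpen (R := R) (ThetaS.tFn R π) (ThetaS.tFn R π) : Set _) := by
    rintro _ ⟨w, rfl⟩
    have := w.2
    refine Or.inl ?_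
    show A.φ.left ((snd (ThetaS.Gm R) A.P).left (O.ι w)) ∈
      (ThetaS.STSch R π).left.basicOpen (fn (R := R) (ThetaS.tFn R π))
    have h2 : (snd (ThetaS.Gm R) A.P).left (O.ι w) ∈
        A.P.left.basicOpen (A.φ.left.appTop (ThetaS.stFn (ThetaS.tFn R π))) := this
    rwa [← mem_pullback_basic] at h2
  have e : smulPt (ThetaS.stAction R π) g y = i ≫ A.act.act ≫ A.φ := by
    have e0 : A.act.act = lift (fst (ThetaS.Gm R) A.P) (snd _ _) ≫ A.act.act := by
      rw [lift_fst_snd, Category.id_comp]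
    rw [e0, Category.assoc, A.eqv, lift_whiskerLeft_assoc, comp_lift_assoc]
  have hp2 : A.φ.left p ∈ twoOpen (R := R) (ThetaS.tFn R π) (ThetaS.tFn R π) := by
    have h0 := t_stable π g y hy ⟨⟨z, hzO⟩, rfl⟩
    rw [e] at h0
    rwa [← (hz : A.act.act.left z = p)]
  have hpt : p ∈ A.P.left.basicOpen (A.φ.left.appTop (ThetaS.stFn (ThetaS.tFn R π))) := by
    rw [← mem_pullback_basic]
    exact hp2.elim id id
  have hprod : p ∈ A.P.left.basicOpen (A.φ.left.appTop (ThetaS.stFn (ThetaS.sFn R π)) *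
      A.φ.left.appTop (ThetaS.stFn (ThetaS.tFn R π))) := by
    rw [Scheme.basicOpen_mul]
    exact ⟨hp, hpt⟩
  have e2 : A.φ.left.appTop (ThetaS.stFn (ThetaS.sFn R π)) * A.φ.left.appTop (ThetaS.stFn (ThetaS.tFn R π)) =
      rho (A.π.left ≫ A.base.hom) π := by
    have e3 : A.φ.left ≫ (ThetaS.STSch R π).hom = A.π.left ≫ A.base.hom :=
      (Over.w A.φ).trans (Over.w A.π).symm
    rw [← e3, rho_comp, rho_sp, ← ThetaS.sFn_mul_tFn]
    show _ = A.φ.left.appTop (fn (R := R) (ThetaS.sFn R π * ThetaS.tFn R π))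
    rw [fn_mul, map_mul]
  rw [e2, rho_comp, ← mem_pullback_basic] at hprod
  exact hprod

theorem br_map {A' : (ThetaS.STR Scheme.fppfPrecoverage R π).obj} (m : A' ⟶ A) (q : ThetaS.STRing R π)
    (x : A'.base.left) : x ∈ br π A' q ↔ m.base.left x ∈ br π A q := by
  have e : A'.φ.left.appTop (ThetaS.stFn q) = m.top.left.appTop (A.φ.left.appTop (ThetaS.stFn q)) := by
    rw [← m.wφ]; rfl
  constructor
  · rintro ⟨p, hp, rfl⟩
    refine ⟨m.top.left p, ?_, ?_⟩
    · rw [e] at hp
      exact (mem_pullback_basic m.top.left _ p).2 hp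
    · exact (congrArg (fun k : A'.P ⟶ A.base => k.left p) m.cart.w)
  · rintro ⟨p, hp, he⟩
    obtain ⟨z, hz, hz'⟩ := Scheme.exists_preimage_of_isPullback (m.cart.map (Over.forget _)) p x he
    refine ⟨z, ?_, hz'⟩
    rw [e]
    exact (mem_pullback_basic m.top.left _ z).1 (by rwa [show m.top.left z = p from hz])

end Branches

variable [IsNoetherianRing R] {S : Scheme.{u}} (h : Spec (CommRingCat.of R) ⟶ S)

theorem topMap_eq {T T' : Over (Spec (CommRingCat.of R))} {Ua Ub : T.left.Opens} {Ua' Ub' : T'.left.Opens}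
    (f : T' ⟶ T) (ha : ∀ x, x ∈ Ua' ↔ f.left x ∈ Ua) (hb : ∀ x, x ∈ Ub' ↔ f.left x ∈ Ub)
    (k : totS π T' Ua' Ub' h ⟶ totS π T Ua Ub h)
    (hk : k ≫ prjS π T Ua Ub h = prjS π T' Ua' Ub' h ≫ (Over.map h).map f)
    (hu : uOf π T Ua Ub (pt h k) = uOf π T' Ua' Ub' (pt h (𝟙 _)))
    (hv : vOf π T Ua Ub (pt h k) = vOf π T' Ua' Ub' (pt h (𝟙 _))) : topMap h f ha hb = k := by
  refine qS_ext h ((topMap_prjS h f ha hb).trans hk.symm) ?_ ?_
  · rw [hu, ← uOf_topMap h f ha hb, Category.id_comp]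
  · rw [hv, ← vOf_topMap h f ha hb, Category.id_comp]

/-- The split torsor as a functor on the punctured stack. -/
noncomputable def splitFun : ThetaS.stPunc Scheme.fppfPrecoverage R π h ⥤ᵇ
    AlgSt.BG Scheme.fppfPrecoverage (Red.Ga S) where
  toFunctor :=
    { obj := fun A => obj (π := π) (T := A.obj.base) (Ua := br π A.obj (ThetaS.sFn R π))
        (Ub := br π A.obj (ThetaS.tFn R π)) h (br_cov π A.obj A.property) (br_dis π A.obj)
      map := fun {A' A} m => homOf h m.hom.base (br_map π A.obj m.hom _) (br_map π A.obj m.hom _)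
        (br_cov π A.obj A.property) (br_dis π A.obj) (br_cov π A'.obj A'.property) (br_dis π A'.obj)
      map_id := fun A => AlgSt.QuotObj.hom_ext ((Over.map h).map_id _) (topMap_eq π h _ (br_map π A.obj (𝟙 A : A ⟶ A).hom _) (br_map π A.obj (𝟙 A : A ⟶ A).hom _) (𝟙 _) (by
          show 𝟙 _ ≫ _ = _ ≫ (Over.map h).map (𝟙 A.obj.base)
          rw [Category.id_comp, CategoryTheory.Functor.map_id]
          exact (Category.comp_id _).symm) rfl rfl)
      map_comp := fun {A B C} m n => AlgSt.QuotObj.hom_ext ((Over.map h).map_comp _ _)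
        (topMap_eq π h _ (br_map π C.obj (m ≫ n).hom _) (br_map π C.obj (m ≫ n).hom _) (topMap h m.hom.base (br_map π B.obj m.hom _) (br_map π B.obj m.hom _) ≫
            topMap h n.hom.base (br_map π C.obj n.hom _) (br_map π C.obj n.hom _)) (by
          show _ = _ ≫ (Over.map h).map (m.hom.base ≫ n.hom.base)
          rw [Category.assoc, topMap_prjS, ← Category.assoc, topMap_prjS, Category.assoc, Functor.map_comp])
          (by rw [uOf_topMap, ← uOf_topMap h m.hom.base (br_map π B.obj m.hom _) (br_map π B.obj m.hom _) (𝟙 _), Category.id_comp])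
          (by rw [vOf_topMap, ← vOf_topMap h m.hom.base (br_map π B.obj m.hom _) (br_map π B.obj m.hom _) (𝟙 _), Category.id_comp])) }
  w := rfl

theorem not_liftsUniquely [IsDomain R] [IsLocalRing R] (hπ : π ≠ 0) (hπu : ¬ IsUnit π) :
    ¬ LiftSq.LiftsUniquely (ThetaS.stIncl Scheme.fppfPrecoverage R π h)
      (FibCat.toSelf (AlgSt.BG Scheme.fppfPrecoverage (Red.Ga S))) := by
  intro hS
  haveI := Quot.hasIsos_fppf.{u}
  let bot := FibCat.toSelf (ThetaS.ST Scheme.fppfPrecoverage R π h)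
  have hsq : BasedFunctor.comp (ThetaS.stIncl Scheme.fppfPrecoverage R π h) bot =
      BasedFunctor.comp (splitFun π h) (FibCat.toSelf (AlgSt.BG Scheme.fppfPrecoverage (Red.Ga S))) :=
    based_ext _ _ (CategoryTheory.Functor.ext (fun _ => rfl) fun _ _ m => by
      simp only [eqToHom_refl, Category.comp_id, Category.id_comp]
      rfl)
  obtain ⟨⟨⟨g, α, -, -⟩⟩, -⟩ := hS ⟨splitFun π h, bot, eqToIso hsq⟩
  let X := ThetaS.STSch R π
  let U := twoOpen (R := R) (ThetaS.sFn R π) (ThetaS.tFn R π)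
  let A₀ := triv Scheme.fppfPrecoverage (ThetaS.stAction R π) (incl U)
  let B₀ := triv Scheme.fppfPrecoverage (ThetaS.stAction R π) (𝟙 X)
  have hA₀ : ThetaS.MissesNode A₀ :=
    (lands_iff A₀ _ _).2 (lands_triv (st_stable (R := R) (π := π)) _ (range_incl U).le)
  obtain ⟨i, hi, -⟩ := exists_hom_of_smul (K := Scheme.fppfPrecoverage) (aX := ThetaS.stAction R π)
    (incl U) (𝟙 X) (incl U) 1 (by rw [Category.comp_id, smulPt_one])
  let a₀ : (ThetaS.stPunc Scheme.fppfPrecoverage R π h).obj := ⟨A₀, hA₀⟩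
  let T₀ := (splitFun π h).obj a₀
  let m : T₀ ⟶ g.obj B₀ := α.inv.toNatTrans.app a₀ ≫ g.map i
  let Bg := g.obj B₀
  have hBg : Bg.base = (Over.map h).obj X := g.w_obj B₀
  let e : Bg.base ⟶ (Over.map h).obj X := eqToHom hBg
  have hm : m.base ≫ e = (Over.map h).map (incl U) := by
    have : (AlgSt.BG Scheme.fppfPrecoverage (Red.Ga S)).p.IsHomLift
        (𝟙 ((ThetaS.stPunc Scheme.fppfPrecoverage R π h).p.obj a₀)) (α.inv.toNatTrans.app a₀) :=
      BasedNatTrans.isHomLift α.inv rfl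
    have h2 : (AlgSt.BG Scheme.fppfPrecoverage (Red.Ga S)).p.IsHomLift ((Over.map h).map i.base) (g.map i) := by
      haveI : (ThetaS.ST Scheme.fppfPrecoverage R π h).p.IsHomLift ((Over.map h).map i.base) i :=
        IsHomLift.map (p := (ThetaS.ST Scheme.fppfPrecoverage R π h).p) i
      exact g.preserves_isHomLift _ _
    have h3 : (AlgSt.BG Scheme.fppfPrecoverage (Red.Ga S)).p.IsHomLift
        ((Over.map h).map i.base) m := by
      have := @IsHomLift.comp _ _ _ _ (AlgSt.BG Scheme.fppfPrecoverage (Red.Ga S)).p _ _ _ _ _ _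
        (𝟙 ((ThetaS.stPunc Scheme.fppfPrecoverage R π h).p.obj a₀)) ((Over.map h).map i.base)
        (α.inv.toNatTrans.app a₀) (g.map i) this h2
      erw [Category.id_comp] at this
      exact this
    have h4 := IsHomLift.fac' (AlgSt.BG Scheme.fppfPrecoverage (Red.Ga S)).p ((Over.map h).map i.base) m
    have h5 : m.base = eqToHom _ ≫ (Over.map h).map i.base ≫ eqToHom _ := h4
    rw [h5]
    simp [e, hi]
  -- the affine flat cover
  haveI : Smooth (Red.Ga S).hom := NeronModel27.smooth_ga S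
  haveI : IsAffine Red.GaZ.{u}.left := inferInstanceAs (IsAffine (Spec _))
  haveI : IsAffineHom Red.GaZ.{u}.hom := isAffineHom_of_isAffine _
  haveI : IsAffineHom (Red.Ga S).hom := MorphismProperty.pullback_snd _ _ inferInstance
  haveI : Flat Bg.π.left := Quot.π_prop Scheme.fppfPrecoverage_le_fpqcPrecoverage @Flat AlgSpLib.descends_flat
    inferInstance Bg
  haveI : IsAffineHom Bg.π.left := Quot.isAffineHom_π Scheme.fppfPrecoverage_le_fpqcPrecoverage Bg
  haveI : Surjective Bg.π.left :=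
    Quot.π_prop Scheme.fppfPrecoverage_le_fpqcPrecoverage @Surjective inferInstance Quot.surjective_hom Bg
  haveI : IsIso e.left := inferInstance
  let Q := Bg.P.left
  let q : Q ⟶ X.left := Bg.π.left ≫ e.left
  haveI : IsAffine X.left := inferInstanceAs (IsAffine (Spec _))
  haveI : IsAffine Q := isAffine_of_isAffineHom q
  let P₀ := tot π A₀.base (br π A₀ (ThetaS.sFn R π)) (br π A₀ (ThetaS.tFn R π))
  let top : P₀ ⟶ Q := (m.top.left : T₀.P.left ⟶ Bg.P.left)
  let p₀ : P₀ ⟶ (U : Scheme.{u}) := prj π A₀.base _ _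
  have sq : IsPullback top p₀ q U.ι := by
    have s1 := m.cart.map (Over.forget S)
    have s2 : IsPullback m.base.left (𝟙 _) e.left U.ι := by
      refine IsPullback.of_vert_isIso ⟨?_⟩
      rw [Category.id_comp]
      exact congrArg CommaMorphism.left hm
    have s3 := s1.paste_vert s2
    erw [Category.comp_id] at s3
    exact s3
  haveI : IsOpenImmersion top := MorphismProperty.of_isPullback sq.flip inferInstance
  let sX : Γ(X.left, ⊤) := fn (R := R) (ThetaS.sFn R π)
  let tX : Γ(X.left, ⊤) := fn (R := R) (ThetaS.tFn R π)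
  let a := q.appTop sX
  let b := q.appTop tX
  let V := Q.basicOpen a ⊔ Q.basicOpen b
  have hV : ∀ w, w ∈ V ↔ q w ∈ U := fun w => by
    show (w ∈ Q.basicOpen a ∨ w ∈ Q.basicOpen b) ↔ q w ∈ X.left.basicOpen sX ∨ q w ∈ X.left.basicOpen tX
    rw [mem_pullback_basic, mem_pullback_basic]
  have hr : Set.range V.ι ⊆ Set.range top := by
    rw [Scheme.Opens.range_ι]
    intro w hw
    obtain ⟨z, hz, -⟩ := Scheme.exists_preimage_of_isPullback sq w ⟨q w, (hV w).1 hw⟩ rfl
    exact ⟨z, hz⟩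
  let l := IsOpenImmersion.lift top V.ι hr
  have hl : l ≫ top = V.ι := IsOpenImmersion.lift_fac _ _ _
  let u₀ : Γ(P₀, ⊤) := uOf π A₀.base (br π A₀ (ThetaS.sFn R π)) (br π A₀ (ThetaS.tFn R π)) (𝟙 P₀)
  have ha : IsRegular a := regular_appTop q (isRegular_fn (st_regular_X hπ 0))
  have hb : IsRegular b := regular_appTop q (isRegular_fn (st_regular_X hπ 1))
  have hq : q.appTop.hom.Flat := HasRingHomProperty.appTop @Flat q inferInstance
  have hab : ∀ x, a ∣ b * x → a ∣ x := fun x hx =>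
    dvd_of_flat q.appTop.hom hq (isRegular_fn (st_regular_X hπ 0)) (dvd_fn (st_dvd hπ)) x hx
  have hba : ∀ x, b ∣ a * x → b ∣ x := by
    intro x hx
    obtain ⟨y, hy⟩ := hx
    obtain ⟨c, hc⟩ := hab y ⟨x, hy.symm⟩
    exact ⟨c, ha.left (show a * x = a * (b * c) by rw [hy, hc]; ring)⟩
  haveI : IsIso V.ι.appTop := isIso_ι_appTop ha hb hab
  let u : Γ(Q, ⊤) := inv V.ι.appTop (l.appTop u₀)
  have hu : V.ι.appTop u = l.appTop u₀ := by
    show (inv V.ι.appTop ≫ V.ι.appTop) _ = _
    rw [IsIso.inv_hom_id]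
    rfl
  -- the value on the two axes
  have key : ∀ w, w ∈ V → (w ∉ Q.basicOpen a → ev w (u - 1) = 0) ∧ (w ∉ Q.basicOpen b → ev w u = 0) := by
    intro w hw
    let w' : (V : Scheme.{u}) := ⟨w, hw⟩
    let z := l w'
    have hz : top z = w := by rw [← Scheme.Hom.comp_apply, hl]; rfl
    have hρ : rho ((𝟙 P₀ ≫ prj π A₀.base _ _) ≫ A₀.base.hom) π = top.appTop (a * b) := by
      rw [Category.id_comp]
      show rho (p₀ ≫ U.ι ≫ X.hom) π = _
      rw [← reassoc_of% sq.w, rho_comp, rho_comp]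
      refine congrArg top.appTop ?_
      rw [rho_sp, ← ThetaS.sFn_mul_tFn]
      show q.appTop (fn (R := R) (ThetaS.sFn R π * ThetaS.tFn R π)) = _
      rw [fn_mul, map_mul]
    have hsec : ∀ f : ThetaS.STRing R π, ∀ x : (U : Scheme.{u}), U.ι x ∈ X.left.basicOpen (fn (R := R) f) →
        x ∈ br π A₀ f := by
      intro f x hx
      refine ⟨(unitSec (G := ThetaS.Gm R) A₀.base).left x, ?_, ?_⟩
      · have e1 : (unitSec (G := ThetaS.Gm R) A₀.base) ≫ A₀.φ = incl U := unitSec_φ _
        rw [SetLike.mem_coe, ← mem_pullback_basic]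
        show ((unitSec (G := ThetaS.Gm R) A₀.base) ≫ A₀.φ).left x ∈ _
        rw [e1]
        exact hx
      · have e1 : (unitSec (G := ThetaS.Gm R) A₀.base) ≫ A₀.π = 𝟙 _ := lift_snd _ _
        show ((unitSec (G := ThetaS.Gm R) A₀.base) ≫ A₀.π).left x = x
        rw [e1]
        rfl
    have hw2 : (U.ι (p₀ z) : X.left) = q w := by
      rw [← hz]
      exact (congrArg (fun k : P₀ ⟶ X.left => k z) sq.w).symm
    have hval : ∀ f : Γ(Q, ⊤), (ev z (top.appTop f) = 0 ↔ ev w f = 0) := fun f => by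
      rw [← not_iff_not, ← ne_eq, ← ne_eq, ← mem_iff, ← mem_iff, ← mem_pullback_basic, hz]
    have hul : ∀ f : Γ(Q, ⊤), ∀ f₀ : Γ(P₀, ⊤), V.ι.appTop f = l.appTop f₀ →
        (ev w f = 0 ↔ ev z f₀ = 0) := fun f f₀ e => by
      rw [← not_iff_not, ← ne_eq, ← ne_eq, ← mem_iff, ← mem_iff]
      show V.ι w' ∈ _ ↔ l w' ∈ _
      rw [mem_pullback_basic, mem_pullback_basic, e]
    have hu1 : V.ι.appTop (u - 1) = l.appTop (u₀ - 1) := by rw [map_sub, map_sub, map_one, map_one, hu]
    have hrel := congrArg (ev z) (rel_of (π := π) (T := A₀.base) (Ua := br π A₀ (ThetaS.sFn R π))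
      (Ub := br π A₀ (ThetaS.tFn R π)) (𝟙 P₀))
    rw [map_mul, map_mul, map_sub, map_one] at hrel
    have hadm := adm_of (π := π) (T := A₀.base) (Ua := br π A₀ (ThetaS.sFn R π))
      (Ub := br π A₀ (ThetaS.tFn R π)) (𝟙 P₀) z
    constructor
    · intro hna
      have h0 : ev z (rho ((𝟙 P₀ ≫ prj π A₀.base _ _) ≫ A₀.base.hom) π) = 0 := by
        rw [hρ, hval, map_mul, not_ne_iff.1 (fun h' => hna ((mem_iff w a).2 h')), zero_mul]
      rw [hul _ _ hu1, map_sub, map_one]
      have hb' : p₀ z ∈ br π A₀ (ThetaS.tFn R π) := hsec _ _ (by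
        rw [hw2]
        exact (mem_pullback_basic q tX w).2 (hw.resolve_left hna))
      rcases hadm with h1 | ⟨h1, -⟩ | ⟨-, h1⟩
      · exact absurd h0 ((mem_iff z _).1 h1)
      · refine absurd ?_ ((mem_iff z _).1 ((mem_pullback_basic p₀ _ z).1 (br_dis π A₀ ⟨h1, hb'⟩)))
        rw [Category.id_comp] at h0
        exact h0
      · rw [h0, zero_mul] at hrel
        exact (mul_eq_zero.1 hrel.symm).resolve_left ((mem_iff z _).1 h1)
    · intro hnb
      have h0 : ev z (rho ((𝟙 P₀ ≫ prj π A₀.base _ _) ≫ A₀.base.hom) π) = 0 := by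
        rw [hρ, hval, map_mul, not_ne_iff.1 (fun h' => hnb ((mem_iff w b).2 h')), mul_zero]
      rw [hul _ _ hu]
      have ha' : p₀ z ∈ br π A₀ (ThetaS.sFn R π) := hsec _ _ (by
        rw [hw2]
        exact (mem_pullback_basic q sX w).2 (hw.resolve_right hnb))
      rcases hadm with h1 | ⟨-, h1⟩ | ⟨h1, -⟩
      · exact absurd h0 ((mem_iff z _).1 h1)
      · rw [h0, zero_mul] at hrel
        rw [mem_iff, map_sub, map_one] at h1
        exact (mul_eq_zero.1 hrel.symm).resolve_right h1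
      · refine absurd ?_ ((mem_iff z _).1 ((mem_pullback_basic p₀ _ z).1 (br_dis π A₀ ⟨ha', h1⟩)))
        rw [Category.id_comp] at h0
        exact h0
  have h1 : Q.basicOpen (b * (u - 1)) ≤ Q.basicOpen a := by
    intro w hw
    rw [Scheme.basicOpen_mul] at hw
    by_contra hna
    exact (mem_iff w _).1 hw.2 ((key w (Or.inr hw.1)).1 hna)
  have h2 : Q.basicOpen (a * u) ≤ Q.basicOpen b := by
    intro w hw
    rw [Scheme.basicOpen_mul] at hw
    by_contra hnb
    exact (mem_iff w _).1 hw.2 ((key w (Or.inl hw.1)).2 hnb)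
  obtain ⟨n, hn⟩ := exists_pow_mul_of_basicOpen_le h1
  obtain ⟨n', hn'⟩ := exists_pow_mul_of_basicOpen_le h2
  rw [mul_pow] at hn hn'
  have hn2 : a ∣ (u - 1) ^ n := by
    simpa using dvd_of_dvd_pow_mul ha hab 1 n (by rwa [pow_one])
  have hn2' : b ∣ u ^ n' := by
    simpa using dvd_of_dvd_pow_mul hb hba 1 n' (by rwa [pow_one])
  -- the node
  let κ := IsLocalRing.ResidueField R
  have hres : algebraMap R κ π = 0 := IsLocalRing.residue_eq_zero_iff _ |>.2 ((IsLocalRing.mem_maximalIdeal π).2 hπu)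
  let φ : ThetaS.STRing R π →ₐ[R] κ := ThetaS.stPt 0 0 (by rw [zero_mul, hres])
  let pc : (CoactBr.sp R κ).left := (default : PrimeSpectrum κ)
  obtain ⟨w, hw⟩ := Surjective.surj (f := q) ((CoactBr.pt φ).left pc)
  have hwa : ev w a = 0 := by
    rw [← not_not (a := ev w a = 0)]
    intro h'
    have := (mem_pullback_basic q sX w).2 ((mem_iff w a).2 h')
    rw [hw, pt_mem_basicOpen] at this
    exact this (by simp [φ])
  have hwb : ev w b = 0 := by
    rw [← not_not (a := ev w b = 0)]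
    intro h'
    have := (mem_pullback_basic q tX w).2 ((mem_iff w b).2 h')
    rw [hw, pt_mem_basicOpen] at this
    exact this (by simp [φ])
  have e1 : ev w (u - 1) = 0 := by
    obtain ⟨c, hc⟩ := hn2
    have := congrArg (ev w) hc
    rw [map_pow, map_mul, hwa, zero_mul] at this
    exact pow_eq_zero_iff'.1 this |>.1
  have e2 : ev w u = 0 := by
    obtain ⟨c, hc⟩ := hn2'
    have := congrArg (ev w) hc
    rw [map_pow, map_mul, hwb, zero_mul] at this
    exact pow_eq_zero_iff'.1 this |>.1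
  rw [map_sub, map_one, e2, zero_sub, neg_eq_zero] at e1
  exact one_ne_zero e1

end Groth.Agent.Stk19b.Theta.Split
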