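import Groth.Agent.Stk19b.Theta.Separated
import Groth.Agent.Stk19b.Theta.Rings
import Groth.Agent.IsoTriv.Spread

/-! Liftings against the point `1` of the theta stack are unique for separated representable morphisms. -/

set_option autoImplicit false
set_option linter.style.haveILetI false
set_option backward.isDefEq.respectTransparency false
set_option backward.isDefEq.respectTransparency.types false

universe u

open CategoryTheory CategoryTheory.Limits AlgebraicGeometry MonoidalCategory CartesianMonoidalCategory Opposite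
open MonObj GrpObj
open FibCat Groth.Agent.Stk19 Groth.Agent.Stk19b.QuotTriv
open scoped Polynomial

namespace Groth.Agent.Stk19b.Theta

variable {S : Scheme.{u}} {R : Type u} [CommRing R]

theorem gm_lfp_any : LocallyOfFinitePresentation (ThetaS.Gm R).hom := by
  haveI : Monoid.FG (Multiplicative ℤ) := inferInstance
  have h1 : Algebra.FinitePresentation ℤ (MonoidAlgebra ℤ (Multiplicative ℤ)) :=
    Algebra.FinitePresentation.of_finiteType.mp inferInstance
  haveI : Algebra.FinitePresentation R (MonoidAlgebra R (Multiplicative ℤ)) :=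
    Algebra.FinitePresentation.equiv (MonoidAlgebra.scalarTensorEquiv ℤ R (M := Multiplicative ℤ))
  exact (HasRingHomProperty.Spec_iff (P := @LocallyOfFinitePresentation)).2
    (RingHom.finitePresentation_algebraMap.2 this)

theorem linePt_z_injective : Function.Injective (ThetaS.linePt (ThetaS.zPow R 1) : R[X] →ₐ[R] ThetaS.Lau R) := by
  have key : ∀ (p : R[X]) (n : ℕ),
      (ThetaS.linePt (ThetaS.zPow R 1) p).coeff (Multiplicative.ofAdd (n : ℤ)) = p.coeff n := by
    intro p n
    induction p using Polynomial.induction_on' with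
    | add p q hp hq => simp [map_add, hp, hq]
    | monomial m a =>
      rw [ThetaS.linePt, Polynomial.aeval_monomial, ThetaS.zPow, MonoidAlgebra.single_pow,
        MonoidAlgebra.coe_algebraMap, Function.comp_apply, MonoidAlgebra.single_mul_single, Polynomial.coeff_monomial]
      simp [← ofAdd_nsmul, Finsupp.single_apply]
  intro p q h
  exact Polynomial.ext fun n => by rw [← key, ← key, h]

theorem liftsUnique_thetaOne (h : Spec (CommRingCat.of R) ⟶ S) {𝒳 𝒴 : AlgSt.Cat S} (h𝒳 : IsFibGrpd 𝒳.p)
    (h𝒴 : IsFibGrpd 𝒴.p) {f : 𝒳 ⥤ᵇ 𝒴} (hrep : AlgSt.RepByAlgSp1 f)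
    (hd : AlgSt.RepByAlgSpWith (AlgSp.RepWith @IsClosedImmersion) (FibCat.diag f)) :
    LiftSq.LiftsUnique (ThetaS.thetaOne Scheme.fppfPrecoverage R h) f := by
  haveI := Quot.hasIsos_fppf.{u}
  haveI : Scheme.fppfPrecoverage.{u}.IsStableUnderBaseChange :=
    inferInstanceAs (Scheme.precoverage (@Flat ⊓ @LocallyOfFinitePresentation)).IsStableUnderBaseChange
  haveI := gm_flat R
  haveI := gm_lfp_any (R := R)
  haveI := faithful_of_repByAlgSp1 h𝒳 h𝒴 hrep
  refine liftsUnique_of_sections h𝒳 h𝒴 _ f hd fun bot A hA hj b => ?_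
  have hfp := fibGrpd_fp h𝒳 h𝒳 h𝒴 f f
  let K := Scheme.fppfPrecoverage.{u}
  let G := ThetaS.Gm R
  let X := ThetaS.Line R
  let aX := ThetaS.lineAction R
  -- the orbit of `1`
  let φ : G ⟶ X := CoactBr.pt (ThetaS.linePt (ThetaS.zPow R 1))
  let o : G ⟶ X := CoactBr.pt (ThetaS.linePt (1 : ThetaS.Lau R))
  have hoφ : smulPt aX (𝟙 G) (𝟙 G ≫ o) = φ := by
    rw [Category.id_comp]
    show lift (𝟙 G) o ≫ aX.act = φ
    rw [show (𝟙 G) = CoactBr.pt (AlgHom.id R (ThetaS.Lau R)) from (CoactBr.pt_id).symm]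
    refine (ThetaS.lineAction_pt (R := R) _ 1).trans ?_
    rw [_root_.mul_one]
    rfl
  obtain ⟨m, -, -⟩ := exists_hom_of_smul (K := K) (aX := aX) φ o (𝟙 G) (𝟙 G) hoφ
  obtain ⟨n, hn, -⟩ := exists_hom_of_smul (K := K) (aX := aX) φ (𝟙 X) φ 1 (by rw [Category.comp_id, smulPt_one])
  let ℬ := ThetaS.Theta K R h
  -- the value at the orbit
  obtain ⟨s₀, hs₀⟩ : ∃ s : ℬ.p.obj (triv K aX φ) ⟶ Z A (triv K aX φ), s ≫ prj A (triv K aX φ) = 𝟙 _ := by
    refine exists_section_of_hom A h𝒳 hfp m ?_
    have e : o = Over.homMk (G.hom ≫ ThetaS.onePt R) (by rw [Category.assoc, ThetaS.onePt_hom, Category.comp_id]) := by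
      refine Over.OverMorphism.ext ?_
      show (CoactBr.pt (ThetaS.linePt (1 : ThetaS.Lau R))).left = G.hom ≫ ThetaS.onePt R
      rw [CoactBr.pt_left, show ThetaS.onePt R = Spec.map (CommRingCat.ofHom (ThetaS.lineOne R).toRingHom) from rfl,
        show G.hom = Spec.map (CommRingCat.ofHom (algebraMap R (ThetaS.Lau R))) from rfl, ← Spec.map_comp]
      congr 1
      ext1
      refine Polynomial.ringHom_ext (fun r => ?_) ?_
      · simp
      · simp [MonoidAlgebra.one_def]
    rw [e]
    exact hj G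
  -- the value on the line
  haveI : IsAffine X.left := inferInstanceAs (IsAffine (Spec _))
  let u : ℬ.obj := triv K aX (𝟙 X)
  obtain ⟨su, hsu⟩ : ∃ s : ℬ.p.obj u ⟶ Z A u, s ≫ prj A u = 𝟙 _ := by
    let q := (prj A u).left
    haveI : IsClosedImmersion q := hA u
    have hl : (s₀ ≫ zmap A n) ≫ prj A u = ℬ.p.map n := by rw [Category.assoc, zmap_prj, reassoc_of% hs₀]
    have hl' : (s₀ ≫ zmap A n).left ≫ q = φ.left :=
      (congrArg CommaMorphism.left hl).trans (congrArg CommaMorphism.left hn)
    have hφ : Function.Injective φ.left.appTop := by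
      intro a b hab
      let g := CommRingCat.ofHom ((ThetaS.linePt (ThetaS.zPow R 1) : R[X] →ₐ[R] ThetaS.Lau R)).toRingHom
      have hn := Scheme.ΓSpecIso_naturality g
      have ea : (Scheme.ΓSpecIso _).hom ((Spec.map g).appTop a) = g ((Scheme.ΓSpecIso _).hom a) := congrArg (fun t => t a) hn
      have eb : (Scheme.ΓSpecIso _).hom ((Spec.map g).appTop b) = g ((Scheme.ΓSpecIso _).hom b) := congrArg (fun t => t b) hn
      refine (ConcreteCategory.bijective_of_isIso (Scheme.ΓSpecIso (CommRingCat.of R[X])).hom).1 (linePt_z_injective ?_)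
      exact ea.symm.trans ((congrArg (Scheme.ΓSpecIso _).hom hab).trans eb)
    haveI : IsAffine (ℬ.p.obj u).left := inferInstanceAs (IsAffine X.left)
    haveI : IsIso q := by
      refine IsClosedImmersion.isIso_of_injective_of_isAffine (f := q) fun a b hab => hφ ?_
      have e := congrArg Scheme.Hom.appTop hl'
      rw [Scheme.Hom.comp_appTop] at e
      rw [← e, CommRingCat.comp_apply, CommRingCat.comp_apply]
      exact congrArg (s₀ ≫ zmap A n).left.appTop hab
    haveI : IsIso (prj A u) :=
      haveI : IsIso ((Over.forget S).map (prj A u)) := ‹IsIso q›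
      isIso_of_reflects_iso _ (Over.forget S)
    exact ⟨inv (prj A u), IsIso.inv_hom_id _⟩
  -- descent
  obtain ⟨b', k, k', h1, h2, h3⟩ := exists_cover (aX := aX) Scheme.fppfPrecoverage_le_fpqcPrecoverage b
  haveI : Flat (ℬ.p.map k).left := h1
  haveI : LocallyOfFinitePresentation (ℬ.p.map k).left := h2
  haveI : Surjective (ℬ.p.map k).left := h3
  haveI : IsClosedImmersion (prj A b).left := hA b
  exact exists_section_of_cover A k (exists_section_of_hom A h𝒳 hfp k' ⟨su, hsu⟩)

end Groth.Agent.Stk19b.Theta
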