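import Groth.Prelude.Def_LiftSq
import Groth.Agent.Stk19.Fp

/-! Composition and base change for unique lifting against a functor over a base category. -/

set_option autoImplicit false
set_option backward.isDefEq.respectTransparency false
set_option backward.isDefEq.respectTransparency.types false

universe v₆ u₆ v₅ u₅ v₄ u₄ v₃ u₃ v₂ u₂ v u

open CategoryTheory CategoryTheory.Limits FibCat LiftSq

namespace Groth.Agent.Stk19b.Theta

open Groth.Agent.Stk19

variable {C : Type u} [Category.{v} C]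
  {𝒜 : BasedCategory.{v₂, u₂} C} {ℬ : BasedCategory.{v₃, u₃} C}
  {𝒳 : BasedCategory.{v₄, u₄} C} {𝒴 : BasedCategory.{v₅, u₅} C} {𝒵 : BasedCategory.{v₆, u₆} C}
  {j : 𝒜 ⥤ᵇ ℬ}

/-- Extensionality for based natural transformations. -/
theorem nat_ext {P Q : 𝒜 ⥤ᵇ ℬ} {α β : P ⟶ Q} (h : ∀ a, α.toNatTrans.app a = β.toNatTrans.app a) : α = β := by
  apply BasedNatTrans.homCategory.ext
  ext a
  exact h a

/-- The image of a vertical morphism is vertical. -/
theorem vert_map (F : 𝒳 ⥤ᵇ 𝒴) {a b : 𝒳.obj} (φ : a ⟶ b) {R : C} (h : 𝒳.p.IsHomLift (𝟙 R) φ) :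
    𝒴.p.IsHomLift (𝟙 (𝒴.p.obj (F.obj a))) (F.map φ) :=
  vert_change 𝒴.p _ (BasedFunctor.preserves_isHomLift F (𝟙 R) φ) rfl

/-- Composition of vertical morphisms over possibly different names of the base. -/
theorem vert_comp₂ {a b c : 𝒳.obj} {φ : a ⟶ b} {ψ : b ⟶ c} {R R' : C} (h₁ : 𝒳.p.IsHomLift (𝟙 R) φ)
    (h₂ : 𝒳.p.IsHomLift (𝟙 R') ψ) : 𝒳.p.IsHomLift (𝟙 (𝒳.p.obj a)) (φ ≫ ψ) := by
  obtain ⟨-, h, hφ⟩ := (vert_iff 𝒳.p φ).1 h₁
  exact vert_comp 𝒳.p _ _ (vert_change 𝒳.p _ h₁ rfl) (vert_change 𝒳.p _ h₂ h.symm)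

theorem liftsUnique_comp {f : 𝒳 ⥤ᵇ 𝒴} {g : 𝒴 ⥤ᵇ 𝒵} (hf : LiftsUnique j f) (hg : LiftsUnique j g) :
    LiftsUnique j (BasedFunctor.comp f g) := by
  intro sq d d'
  let sg : Sq j g := ⟨BasedFunctor.comp sq.top f, sq.bot, sq.iso⟩
  let push : sq.Lift → sg.Lift := fun e =>
    { fn := BasedFunctor.comp e.fn f
      isoTop := isoMk (fun a => f.toFunctor.mapIso (appIso e.isoTop a))
        (fun a => vert_map f _ (based_vert e.isoTop a))
        (fun φ => (f.toFunctor.map_comp _ _).symm.trans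
          ((congrArg f.map (e.isoTop.hom.toNatTrans.naturality φ)).trans (f.toFunctor.map_comp _ _)))
      isoBot := e.isoBot
      w := nat_ext fun a => congrArg (fun z => z.toNatTrans.app a) e.w }
  obtain ⟨⟨⟨θg⟩, hθg⟩⟩ := hg sg (push d) (push d')
  obtain ⟨⟨⟨θg'⟩, -⟩⟩ := hg sg (push d') (push d)
  have h1 : θg.hom ≫ θg'.hom = 𝟙 _ := by
    obtain ⟨⟨_, hu⟩⟩ := hg sg (push d) (push d)
    exact congrArg Sq.Lift.Hom.hom ((hu (θg ≫ θg')).trans (hu (𝟙 _)).symm)
  have h2 : θg'.hom ≫ θg.hom = 𝟙 _ := by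
    obtain ⟨⟨_, hu⟩⟩ := hg sg (push d') (push d')
    exact congrArg Sq.Lift.Hom.hom ((hu (θg' ≫ θg)).trans (hu (𝟙 _)).symm)
  let η : BasedFunctor.comp d.fn f ≅ BasedFunctor.comp d'.fn f := ⟨θg.hom, θg'.hom, h1, h2⟩
  let sf : Sq j f := ⟨sq.top, BasedFunctor.comp d'.fn f, (push d').isoTop⟩
  let e' : sf.Lift :=
    { fn := d'.fn
      isoTop := d'.isoTop
      isoBot := Iso.refl _
      w := nat_ext fun a => Category.id_comp _ }
  let e : sf.Lift :=
    { fn := d.fn
      isoTop := d.isoTop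
      isoBot := η.symm
      w := nat_ext fun a => congrArg (fun z => z.toNatTrans.app a) θg'.w_top }
  obtain ⟨⟨⟨θ⟩, hθ⟩⟩ := hf sf e e'
  have hb : BasedCategory.whiskerRight θ.hom f = θg.hom := by
    have := θ.w_bot
    refine (Category.id_comp _).symm.trans ?_
    rw [← h1, Category.assoc]
    refine (congrArg (θg.hom ≫ ·) this).trans ?_
    exact Category.comp_id _
  refine ⟨⟨⟨⟨θ.hom, θ.w_top, nat_ext fun a => ?_⟩⟩, fun θ' => ?_⟩⟩
  · have h := congrArg (fun z => z.toNatTrans.app a) θg.w_bot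
    have h' := congrArg (fun z => z.toNatTrans.app a) hb
    exact ((congrArg (d.isoBot.hom.toNatTrans.app a ≫ ·) (congrArg g.map h')).trans h)
  · refine Sq.Lift.hom_ext ?_
    have hp : (BasedCategory.whiskerRight θ'.hom f) = θg.hom := by
      let q : push d ⟶ push d' :=
        ⟨BasedCategory.whiskerRight θ'.hom f,
          nat_ext fun a => (f.toFunctor.map_comp _ _).symm.trans
            (congrArg f.map (congrArg (fun z => z.toNatTrans.app a) θ'.w_top)),
          nat_ext fun a => congrArg (fun z => z.toNatTrans.app a) θ'.w_bot⟩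
      exact congrArg Sq.Lift.Hom.hom (hθg q)
    let r : e ⟶ e' := ⟨θ'.hom, θ'.w_top, by
      show η.inv ≫ BasedCategory.whiskerRight θ'.hom f = 𝟙 _
      rw [hp]
      exact h2⟩
    exact (congrArg Sq.Lift.Hom.hom ((hθ r).trans (hθ θ).symm) :)

theorem lifts_comp {f : 𝒳 ⥤ᵇ 𝒴} {g : 𝒴 ⥤ᵇ 𝒵} (hf : Lifts j f) (hg : Lifts j g) :
    Lifts j (BasedFunctor.comp f g) := by
  intro sq
  obtain ⟨dg⟩ := hg ⟨BasedFunctor.comp sq.top f, sq.bot, sq.iso⟩
  obtain ⟨df⟩ := hf ⟨sq.top, dg.fn, dg.isoTop⟩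
  exact ⟨{
    fn := df.fn
    isoTop := df.isoTop
    isoBot := dg.isoBot ≪≫ (isoMk (fun a => g.toFunctor.mapIso (appIso df.isoBot a))
      (fun a => vert_map g _ (based_vert df.isoBot a))
      (fun φ => (g.toFunctor.map_comp _ _).symm.trans
        ((congrArg g.map (df.isoBot.hom.toNatTrans.naturality φ)).trans (g.toFunctor.map_comp _ _))) :
      BasedFunctor.comp dg.fn g ≅ BasedFunctor.comp df.fn (BasedFunctor.comp f g))
    w := nat_ext fun a => by
      have h1 : df.isoBot.hom.toNatTrans.app (j.obj a) ≫ f.map (df.isoTop.hom.toNatTrans.app a) =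
          dg.isoTop.hom.toNatTrans.app a := congrArg (fun z => z.toNatTrans.app a) df.w
      have h2 : dg.isoBot.hom.toNatTrans.app (j.obj a) ≫ g.map (dg.isoTop.hom.toNatTrans.app a) =
          sq.iso.hom.toNatTrans.app a := congrArg (fun z => z.toNatTrans.app a) dg.w
      show (dg.isoBot.hom.toNatTrans.app (j.obj a) ≫ g.map (df.isoBot.hom.toNatTrans.app (j.obj a))) ≫
          g.map (f.map (df.isoTop.hom.toNatTrans.app a)) = _
      rw [Category.assoc, ← g.toFunctor.map_comp, h1, h2] }⟩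

theorem liftsUniquely_comp {f : 𝒳 ⥤ᵇ 𝒴} {g : 𝒴 ⥤ᵇ 𝒵} (hf : LiftsUniquely j f) (hg : LiftsUniquely j g) :
    LiftsUniquely j (BasedFunctor.comp f g) :=
  fun sq => ⟨lifts_comp (fun s => (hf s).1) (fun s => (hg s).1) sq,
    liftsUnique_comp (fun s => (hf s).2) (fun s => (hg s).2) sq⟩

theorem liftsUniquely_fpFst {f : 𝒳 ⥤ᵇ 𝒵} (y : 𝒴 ⥤ᵇ 𝒵) (hf : LiftsUniquely j f) :
    LiftsUniquely j (fpFst y f) := by
  intro sq
  let sf : Sq j f :=
    { top := BasedFunctor.comp sq.top (fpSnd y f)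
      bot := BasedFunctor.comp sq.bot y
      iso := (isoMk (fun a => y.toFunctor.mapIso (appIso sq.iso a) ≪≫ (sq.top.obj a).obj.iso)
        (fun a => vert_comp₂ (vert_map y _ (based_vert sq.iso a)) (fp_iso_vert (sq.top.obj a)))
        (fun {a b} φ => by
          show y.map (sq.bot.map (j.map φ)) ≫ y.map (sq.iso.hom.toNatTrans.app b) ≫ (sq.top.obj b).obj.iso.hom =
            (y.map (sq.iso.hom.toNatTrans.app a) ≫ (sq.top.obj a).obj.iso.hom) ≫ f.map ((sq.top.map φ).hom.snd)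
          have n : sq.bot.map (j.map φ) ≫ sq.iso.hom.toNatTrans.app b =
              sq.iso.hom.toNatTrans.app a ≫ (sq.top.map φ).hom.fst := sq.iso.hom.toNatTrans.naturality φ
          have w : y.map (sq.top.map φ).hom.fst ≫ (sq.top.obj b).obj.iso.hom =
              (sq.top.obj a).obj.iso.hom ≫ f.map (sq.top.map φ).hom.snd := (sq.top.map φ).hom.w
          rw [← y.toFunctor.map_comp_assoc, n, y.toFunctor.map_comp_assoc, w, Category.assoc]) :
        BasedFunctor.comp j (BasedFunctor.comp sq.bot y) ≅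
          BasedFunctor.comp (BasedFunctor.comp sq.top (fpSnd y f)) f) }
  obtain ⟨⟨d⟩, hu⟩ := hf sf
  refine ⟨⟨{
    fn := fpLift sq.bot d.fn d.isoBot
    isoTop := isoMk (fun a => fpIsoMk (appIso sq.iso a) (appIso d.isoTop a)
        (congrArg (fun z => z.toNatTrans.app a) d.w).symm)
      (fun a => fpIsoMk_vert _ _ _ (vert_change 𝒴.p _ (based_vert sq.iso a) rfl))
      (fun φ => fp_hom_ext (sq.iso.hom.toNatTrans.naturality φ) (d.isoTop.hom.toNatTrans.naturality φ))
    isoBot := Iso.refl _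
    w := nat_ext fun a => Category.id_comp _ }⟩, fun e e' => ?_⟩
  let push : sq.Lift → sf.Lift := fun e =>
    { fn := BasedFunctor.comp e.fn (fpSnd y f)
      isoTop := isoMk (fun a => (fpSnd y f).toFunctor.mapIso (appIso e.isoTop a))
        (fun a => vert_map (fpSnd y f) _ (based_vert e.isoTop a))
        (fun φ => congrArg (fun z => z.hom.snd) (e.isoTop.hom.toNatTrans.naturality φ))
      isoBot := isoMk (fun b => y.toFunctor.mapIso (appIso e.isoBot b) ≪≫ (e.fn.obj b).obj.iso)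
        (fun b => vert_comp₂ (vert_map y _ (based_vert e.isoBot b)) (fp_iso_vert (e.fn.obj b)))
        (fun {a b} φ => by
          show y.map (sq.bot.map φ) ≫ y.map (e.isoBot.hom.toNatTrans.app b) ≫ (e.fn.obj b).obj.iso.hom =
            (y.map (e.isoBot.hom.toNatTrans.app a) ≫ (e.fn.obj a).obj.iso.hom) ≫ f.map ((e.fn.map φ).hom.snd)
          have n : sq.bot.map φ ≫ e.isoBot.hom.toNatTrans.app b =
              e.isoBot.hom.toNatTrans.app a ≫ (e.fn.map φ).hom.fst := e.isoBot.hom.toNatTrans.naturality φ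
          have w : y.map (e.fn.map φ).hom.fst ≫ (e.fn.obj b).obj.iso.hom =
              (e.fn.obj a).obj.iso.hom ≫ f.map (e.fn.map φ).hom.snd := (e.fn.map φ).hom.w
          rw [← y.toFunctor.map_comp_assoc, n, y.toFunctor.map_comp_assoc, w, Category.assoc])
      w := nat_ext fun a => by
        show (y.map (e.isoBot.hom.toNatTrans.app (j.obj a)) ≫ (e.fn.obj (j.obj a)).obj.iso.hom) ≫
            f.map (e.isoTop.hom.toNatTrans.app a).hom.snd =
          y.map (sq.iso.hom.toNatTrans.app a) ≫ (sq.top.obj a).obj.iso.hom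
        have h : e.isoBot.hom.toNatTrans.app (j.obj a) ≫ (e.isoTop.hom.toNatTrans.app a).hom.fst =
            sq.iso.hom.toNatTrans.app a := congrArg (fun z => z.toNatTrans.app a) e.w
        have w : y.map (e.isoTop.hom.toNatTrans.app a).hom.fst ≫ (sq.top.obj a).obj.iso.hom =
            (e.fn.obj (j.obj a)).obj.iso.hom ≫ f.map (e.isoTop.hom.toNatTrans.app a).hom.snd :=
          (e.isoTop.hom.toNatTrans.app a).hom.w
        rw [Category.assoc, ← w, ← h, y.toFunctor.map_comp_assoc] }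
  obtain ⟨⟨⟨θ₂⟩, hθ₂⟩⟩ := hu (push e) (push e')
  have hfst : ∀ b, (e.isoBot.inv.toNatTrans.app b ≫ e'.isoBot.hom.toNatTrans.app b) =
      (e.isoBot.inv ≫ e'.isoBot.hom).toNatTrans.app b := fun _ => rfl
  have hinv : ∀ b, e.isoBot.inv.toNatTrans.app b ≫ e.isoBot.hom.toNatTrans.app b = 𝟙 _ :=
    fun b => (appIso e.isoBot b).inv_hom_id
  have hinv' : ∀ b, e.isoBot.hom.toNatTrans.app b ≫ e.isoBot.inv.toNatTrans.app b = 𝟙 _ :=
    fun b => (appIso e.isoBot b).hom_inv_id
  let app : ∀ b, e.fn.obj b ⟶ e'.fn.obj b := fun b =>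
    fpHom ((e.isoBot.inv ≫ e'.isoBot.hom).toNatTrans.app b) (θ₂.hom.toNatTrans.app b) (by
      have h : (y.map (e.isoBot.hom.toNatTrans.app b) ≫ (e.fn.obj b).obj.iso.hom) ≫
          f.map (θ₂.hom.toNatTrans.app b) =
          y.map (e'.isoBot.hom.toNatTrans.app b) ≫ (e'.fn.obj b).obj.iso.hom :=
        congrArg (fun z => z.toNatTrans.app b) θ₂.w_bot
      show y.map (e.isoBot.inv.toNatTrans.app b ≫ e'.isoBot.hom.toNatTrans.app b) ≫ _ = _
      rw [y.toFunctor.map_comp, Category.assoc, ← h, Category.assoc, ← y.toFunctor.map_comp_assoc, hinv,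
        y.toFunctor.map_id]
      exact Category.id_comp _)
  let θ : e.fn ⟶ e'.fn :=
    { toNatTrans :=
        { app := app
          naturality := fun a b φ => fp_hom_ext ((e.isoBot.inv ≫ e'.isoBot.hom).toNatTrans.naturality φ)
            (θ₂.hom.toNatTrans.naturality φ) }
      isHomLift' := fun b => (vert_iff _ _).2
        ((vert_iff 𝒴.p ((e.isoBot.inv ≫ e'.isoBot.hom).toNatTrans.app b)).1
          ((e.isoBot.inv ≫ e'.isoBot.hom).isHomLift rfl)) }
  refine ⟨⟨⟨⟨θ, nat_ext fun a => fp_hom_ext ?_ ?_, nat_ext fun b => ?_⟩⟩, fun θ' => ?_⟩⟩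
  · show (e.isoBot.inv.toNatTrans.app (j.obj a) ≫ e'.isoBot.hom.toNatTrans.app (j.obj a)) ≫
      (e'.isoTop.hom.toNatTrans.app a).hom.fst = (e.isoTop.hom.toNatTrans.app a).hom.fst
    have h : e.isoBot.hom.toNatTrans.app (j.obj a) ≫ (e.isoTop.hom.toNatTrans.app a).hom.fst =
        sq.iso.hom.toNatTrans.app a := congrArg (fun z => z.toNatTrans.app a) e.w
    have h' : e'.isoBot.hom.toNatTrans.app (j.obj a) ≫ (e'.isoTop.hom.toNatTrans.app a).hom.fst =
        sq.iso.hom.toNatTrans.app a := congrArg (fun z => z.toNatTrans.app a) e'.w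
    rw [Category.assoc, h', ← h, ← Category.assoc, hinv]
    exact Category.id_comp _
  · exact congrArg (fun z => z.toNatTrans.app a) θ₂.w_top
  · show e.isoBot.hom.toNatTrans.app b ≫ (e.isoBot.inv.toNatTrans.app b ≫ e'.isoBot.hom.toNatTrans.app b) = _
    rw [← Category.assoc, hinv']
    exact Category.id_comp _
  · refine Sq.Lift.hom_ext (nat_ext fun b => fp_hom_ext ?_ ?_)
    · have h : e.isoBot.hom.toNatTrans.app b ≫ (θ'.hom.toNatTrans.app b).hom.fst =
          e'.isoBot.hom.toNatTrans.app b := congrArg (fun z => z.toNatTrans.app b) θ'.w_bot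
      show _ = e.isoBot.inv.toNatTrans.app b ≫ e'.isoBot.hom.toNatTrans.app b
      rw [← h, ← Category.assoc, hinv]
      exact (Category.id_comp _).symm
    · let q : push e ⟶ push e' :=
        ⟨BasedCategory.whiskerRight θ'.hom (fpSnd y f),
          nat_ext fun a => congrArg (fun z => (z.toNatTrans.app a).hom.snd) θ'.w_top,
          nat_ext fun b => by
            show (y.map (e.isoBot.hom.toNatTrans.app b) ≫ (e.fn.obj b).obj.iso.hom) ≫
                f.map (θ'.hom.toNatTrans.app b).hom.snd =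
              y.map (e'.isoBot.hom.toNatTrans.app b) ≫ (e'.fn.obj b).obj.iso.hom
            have w : y.map (θ'.hom.toNatTrans.app b).hom.fst ≫ (e'.fn.obj b).obj.iso.hom =
                (e.fn.obj b).obj.iso.hom ≫ f.map (θ'.hom.toNatTrans.app b).hom.snd :=
              (θ'.hom.toNatTrans.app b).hom.w
            have h : e.isoBot.hom.toNatTrans.app b ≫ (θ'.hom.toNatTrans.app b).hom.fst =
                e'.isoBot.hom.toNatTrans.app b := congrArg (fun z => z.toNatTrans.app b) θ'.w_bot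
            rw [Category.assoc, ← w, ← h, y.toFunctor.map_comp_assoc]⟩
      exact congrArg (fun z => z.hom.toNatTrans.app b) (hθ₂ q)

end Groth.Agent.Stk19b.Theta
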