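import Groth.Agent.Stk19.Fp

/-! Universal arrows from a functor over a base category, and their sections. -/

set_option autoImplicit false
set_option backward.isDefEq.respectTransparency false
set_option backward.isDefEq.respectTransparency.types false

universe v₅ u₅ v₄ u₄ v₃ u₃ v₂ u₂ v u

open CategoryTheory FibCat Groth.Agent.Stk19

namespace Groth.Agent.Stk19b.Theta

variable {C : Type u} [Category.{v} C]
  {ℬ : BasedCategory.{v₃, u₃} C} {𝒳 : BasedCategory.{v₄, u₄} C} {𝒴 : BasedCategory.{v₅, u₅} C}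

/-- A universal arrow from `f` to the value of `bot` at an object. -/
structure UArr (f : 𝒳 ⥤ᵇ 𝒴) (bot : ℬ ⥤ᵇ 𝒴) (b : ℬ.obj) where
  x : 𝒳.obj
  m : f.obj x ⟶ bot.obj b
  univ : ∀ (x' : 𝒳.obj) (m' : f.obj x' ⟶ bot.obj b), ∃! κ : x' ⟶ x, f.map κ ≫ m = m'

variable {f : 𝒳 ⥤ᵇ 𝒴} {bot : ℬ ⥤ᵇ 𝒴} (A : ∀ b, UArr f bot b)

/-- The base of the universal arrow. -/
abbrev Z (b : ℬ.obj) : C := 𝒳.p.obj (A b).x

/-- The structure map of the base of the universal arrow. -/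
def prj (b : ℬ.obj) : Z A b ⟶ ℬ.p.obj b :=
  eqToHom (f.w_obj (A b).x).symm ≫ 𝒴.p.map (A b).m ≫ eqToHom (bot.w_obj b)

theorem p_m (b : ℬ.obj) :
    𝒴.p.map (A b).m = eqToHom (f.w_obj (A b).x) ≫ prj A b ≫ eqToHom (bot.w_obj b).symm := by
  simp [prj]

/-- The map of universal arrows over a morphism. -/
noncomputable def arr {b' b : ℬ.obj} (n : b' ⟶ b) : (A b').x ⟶ (A b).x :=
  ((A b).univ _ ((A b').m ≫ bot.map n)).exists.choose

theorem arr_spec {b' b : ℬ.obj} (n : b' ⟶ b) : f.map (arr A n) ≫ (A b).m = (A b').m ≫ bot.map n :=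
  ((A b).univ _ ((A b').m ≫ bot.map n)).exists.choose_spec

theorem arr_comp {b'' b' b : ℬ.obj} (k : b'' ⟶ b') (n : b' ⟶ b) : arr A k ≫ arr A n = arr A (k ≫ n) := by
  refine ((A b).univ _ _).unique ?_ (arr_spec A (k ≫ n))
  rw [f.toFunctor.map_comp, Category.assoc, arr_spec, reassoc_of% (arr_spec A k), ← bot.toFunctor.map_comp]

theorem arr_id (b : ℬ.obj) : arr A (𝟙 b) = 𝟙 _ := by
  refine ((A b).univ _ _).unique (arr_spec A (𝟙 b)) ?_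
  rw [f.toFunctor.map_id, bot.toFunctor.map_id, Category.id_comp, Category.comp_id]

/-- The map of bases over a morphism. -/
noncomputable def zmap {b' b : ℬ.obj} (n : b' ⟶ b) : Z A b' ⟶ Z A b := 𝒳.p.map (arr A n)

theorem zmap_comp {b'' b' b : ℬ.obj} (k : b'' ⟶ b') (n : b' ⟶ b) : zmap A k ≫ zmap A n = zmap A (k ≫ n) := by
  rw [zmap, zmap, zmap, ← 𝒳.p.map_comp, arr_comp]

theorem zmap_prj {b' b : ℬ.obj} (n : b' ⟶ b) : zmap A n ≫ prj A b = prj A b' ≫ ℬ.p.map n := by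
  have h := congrArg 𝒴.p.map (arr_spec A n)
  rw [𝒴.p.map_comp, 𝒴.p.map_comp, p_m, p_m, based_map f, based_map bot] at h
  simp only [Category.assoc, eqToHom_trans_assoc, eqToHom_refl, Category.id_comp] at h
  show 𝒳.p.map (arr A n) ≫ prj A b = _
  exact (cancel_mono (eqToHom (bot.w_obj b).symm)).1 (by
    simpa using (cancel_epi (eqToHom (f.w_obj (A b').x))).1 h)

/-- The section given by an object with an arrow. -/
noncomputable def κOf {b : ℬ.obj} {x : 𝒳.obj} (m' : f.obj x ⟶ bot.obj b) : x ⟶ (A b).x :=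
  ((A b).univ x m').exists.choose

theorem κOf_spec {b : ℬ.obj} {x : 𝒳.obj} (m' : f.obj x ⟶ bot.obj b) : f.map (κOf A m') ≫ (A b).m = m' :=
  ((A b).univ x m').exists.choose_spec

theorem κOf_eq {b : ℬ.obj} {x : 𝒳.obj} {m' : f.obj x ⟶ bot.obj b} {κ : x ⟶ (A b).x}
    (h : f.map κ ≫ (A b).m = m') : κ = κOf A m' :=
  ((A b).univ x m').unique h (κOf_spec A m')

theorem κOf_arr {b' b : ℬ.obj} (n : b' ⟶ b) {x' x : 𝒳.obj} (ψ : x' ⟶ x) {m' : f.obj x' ⟶ bot.obj b'}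
    {m : f.obj x ⟶ bot.obj b} (h : m' ≫ bot.map n = f.map ψ ≫ m) : κOf A m' ≫ arr A n = ψ ≫ κOf A m := by
  refine ((A b).univ _ _).unique ?_ (κOf_spec A (m' ≫ bot.map n)) |>.trans
    (((A b).univ _ _).unique ?_ (κOf_spec A (m' ≫ bot.map n))).symm
  · rw [f.toFunctor.map_comp, Category.assoc, arr_spec, reassoc_of% (κOf_spec A m')]
  · rw [f.toFunctor.map_comp, Category.assoc, κOf_spec, h]

/-- The base change square of universal arrows. -/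
theorem existsUnique_lift (h𝒳 : IsFibGrpd 𝒳.p) (h𝒴 : IsFibGrpd 𝒴.p) {b' b : ℬ.obj} (n : b' ⟶ b) {W : C}
    (g₁ : W ⟶ Z A b) (g₂ : W ⟶ ℬ.p.obj b') (hg : g₁ ≫ prj A b = g₂ ≫ ℬ.p.map n) :
    ∃! l : W ⟶ Z A b', l ≫ zmap A n = g₁ ∧ l ≫ prj A b' = g₂ := by
  obtain ⟨x, φ, ex, hφ⟩ := fibGrpd_lift h𝒳 (A b).x g₁
  obtain ⟨m', ⟨hm', hm'n⟩, -⟩ := fibGrpd_fac h𝒴 (bot.map n) (f.map φ ≫ (A b).m)
    (eqToHom ((f.w_obj x).trans ex) ≫ g₂ ≫ eqToHom (bot.w_obj b').symm) (by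
      rw [based_map bot, 𝒴.p.map_comp, based_map f, p_m, hφ]
      simp only [Category.assoc, eqToHom_trans_assoc, eqToHom_refl, Category.id_comp]
      rw [reassoc_of% hg])
  let κ := κOf A m'
  have hκ : κ ≫ arr A n = φ := by
    refine ((A b).univ x (f.map φ ≫ (A b).m)).unique ?_ rfl
    rw [f.toFunctor.map_comp, Category.assoc, arr_spec, reassoc_of% (κOf_spec A m'), hm'n]
  have hκp : 𝒳.p.map κ ≫ prj A b' = eqToHom ex ≫ g₂ := by
    have h := congrArg 𝒴.p.map (κOf_spec A m')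
    rw [𝒴.p.map_comp, p_m, based_map f, hm'] at h
    simp only [Category.assoc, eqToHom_trans_assoc, eqToHom_refl, Category.id_comp] at h
    rw [← cancel_mono (eqToHom (bot.w_obj b').symm), ← cancel_epi (eqToHom (f.w_obj x))]
    simpa [κ] using h
  refine ⟨eqToHom ex.symm ≫ 𝒳.p.map κ, ⟨?_, ?_⟩, fun l hl => ?_⟩
  · rw [Category.assoc, zmap, ← 𝒳.p.map_comp, hκ, hφ]
    simp
  · rw [Category.assoc, hκp]
    simp
  · obtain ⟨x', ψ, ex', hψ⟩ := fibGrpd_lift h𝒳 (A b').x l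
    obtain ⟨ι, ⟨hι, hιφ⟩, -⟩ := fibGrpd_fac h𝒳 φ (ψ ≫ arr A n) (eqToHom (ex'.trans ex.symm)) (by
      rw [𝒳.p.map_comp, hφ, hψ, ← hl.1, zmap]
      simp)
    have e : ψ = ι ≫ κ := by
      have h1 : f.map ψ ≫ (A b').m = f.map (ι ≫ κ) ≫ (A b').m := by
        refine fibGrpd_ext h𝒴 (bot.map n) ?_ ?_
        · have hc : l ≫ prj A b' = (eqToHom ex.symm ≫ 𝒳.p.map κ) ≫ prj A b' := by
            rw [hl.2, Category.assoc, hκp]; simp
          rw [𝒴.p.map_comp, 𝒴.p.map_comp, based_map f, based_map f, p_m, 𝒳.p.map_comp, hι, hψ]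
          simp [reassoc_of% hc]
        · rw [Category.assoc, Category.assoc, ← arr_spec, ← f.toFunctor.map_comp_assoc, ← f.toFunctor.map_comp_assoc,
            Category.assoc, hκ, hιφ]
      exact ((A b').univ x' _).unique h1 rfl
    have h2 : 𝒳.p.map ψ = 𝒳.p.map ι ≫ 𝒳.p.map κ := by rw [e, 𝒳.p.map_comp]
    rw [hψ, hι, ← cancel_epi (eqToHom ex'.symm)] at h2
    simpa using h2

theorem zmap_hom_ext (h𝒳 : IsFibGrpd 𝒳.p) (h𝒴 : IsFibGrpd 𝒴.p) {b' b : ℬ.obj} (n : b' ⟶ b) {W : C}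
    {l l' : W ⟶ Z A b'} (h₁ : l ≫ zmap A n = l' ≫ zmap A n) (h₂ : l ≫ prj A b' = l' ≫ prj A b') : l = l' :=
  (existsUnique_lift A h𝒳 h𝒴 n (l ≫ zmap A n) (l ≫ prj A b')
    (by rw [Category.assoc, zmap_prj, Category.assoc])).unique ⟨rfl, rfl⟩ ⟨h₁.symm, h₂.symm⟩

/-- The section of an object with a vertical arrow. -/
noncomputable def σOf {b : ℬ.obj} {x : 𝒳.obj} (ex : 𝒳.p.obj x = ℬ.p.obj b) (m' : f.obj x ⟶ bot.obj b) :
    ℬ.p.obj b ⟶ Z A b :=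
  eqToHom ex.symm ≫ 𝒳.p.map (κOf A m')

theorem σOf_prj {b : ℬ.obj} {x : 𝒳.obj} (ex : 𝒳.p.obj x = ℬ.p.obj b) {m' : f.obj x ⟶ bot.obj b}
    (hm : ∃ h, 𝒴.p.map m' = eqToHom h) : σOf A ex m' ≫ prj A b = 𝟙 _ := by
  obtain ⟨e, he⟩ := hm
  have h := congrArg 𝒴.p.map (κOf_spec A m')
  rw [𝒴.p.map_comp, p_m, based_map f, he] at h
  simp only [Category.assoc, eqToHom_trans_assoc, eqToHom_refl, Category.id_comp] at h
  rw [σOf, ← cancel_mono (eqToHom (bot.w_obj b).symm),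
    ← cancel_epi (eqToHom ((f.w_obj x).trans ex))]
  simpa using h

theorem σOf_natural {b' b : ℬ.obj} (n : b' ⟶ b) {x' x : 𝒳.obj} (ex' : 𝒳.p.obj x' = ℬ.p.obj b')
    (ex : 𝒳.p.obj x = ℬ.p.obj b) (ψ : x' ⟶ x) (hψ : 𝒳.p.map ψ = eqToHom ex' ≫ ℬ.p.map n ≫ eqToHom ex.symm)
    {m' : f.obj x' ⟶ bot.obj b'} {m : f.obj x ⟶ bot.obj b} (h : m' ≫ bot.map n = f.map ψ ≫ m) :
    σOf A ex' m' ≫ zmap A n = ℬ.p.map n ≫ σOf A ex m := by
  rw [σOf, σOf, zmap, Category.assoc, ← 𝒳.p.map_comp, κOf_arr A n ψ h, 𝒳.p.map_comp, hψ]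
  simp

/-- An isomorphism over the identity between two objects with the same section. -/
theorem exists_unique_compare (h𝒳 : IsFibGrpd 𝒳.p) {b : ℬ.obj} {x x' : 𝒳.obj} (ex : 𝒳.p.obj x = ℬ.p.obj b)
    (ex' : 𝒳.p.obj x' = ℬ.p.obj b) {m : f.obj x ⟶ bot.obj b} {m' : f.obj x' ⟶ bot.obj b}
    (h : σOf A ex m = σOf A ex' m') :
    ∃! θ : x ⟶ x', 𝒳.p.map θ = eqToHom (ex.trans ex'.symm) ∧ f.map θ ≫ m' = m := by
  have hb : eqToHom (ex.trans ex'.symm) ≫ 𝒳.p.map (κOf A m') = 𝒳.p.map (κOf A m) := by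
    have := congrArg (eqToHom ex ≫ ·) h
    simp [σOf] at this
    exact this.symm
  obtain ⟨θ, ⟨hθ, hθκ⟩, huniq⟩ := fibGrpd_fac h𝒳 (κOf A m') (κOf A m) (eqToHom (ex.trans ex'.symm)) hb
  refine ⟨θ, ⟨hθ, ?_⟩, fun θ' hθ' => huniq θ' ⟨hθ'.1, ?_⟩⟩
  · rw [← κOf_spec A m', ← f.toFunctor.map_comp_assoc, hθκ, κOf_spec]
  · exact κOf_eq A (by rw [f.toFunctor.map_comp, Category.assoc, κOf_spec, hθ'.2])

end Groth.Agent.Stk19b.Theta
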