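import Groth.Agent.Stk19b.Theta.Lift
import Mathlib.AlgebraicGeometry.Sites.Fpqc

/-! Natural families of sections extend when they do so on a chart. -/

set_option autoImplicit false
set_option linter.style.haveILetI false
set_option backward.isDefEq.respectTransparency false
set_option backward.isDefEq.respectTransparency.types false

universe u

open CategoryTheory CategoryTheory.Limits AlgebraicGeometry FibCat Groth.Agent.Stk19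

namespace Groth.Agent.Stk19b.Theta

variable {S : Scheme.{u}} {ℬ 𝒳 𝒴 : AlgSt.Cat S}

/-- A chart of a category over the base, adapted to a full subcategory. -/
structure Chart (Q : ℬ.obj → Prop) where
  u : ℬ.obj
  r : ℬ.obj
  p₁ : r ⟶ u
  p₂ : r ⟶ u
  cov : ∀ b, ∃ (b' : ℬ.obj) (n : b' ⟶ b) (_ : b' ⟶ u), Flat (ℬ.p.map n).left ∧
    LocallyOfFinitePresentation (ℬ.p.map n).left ∧ Surjective (ℬ.p.map n).left
  pair : ∀ (c : ℬ.obj) (m₁ m₂ : c ⟶ u), ∃ l : c ⟶ r, l ≫ p₁ = m₁ ∧ l ≫ p₂ = m₂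
  u₀ : ℬ.obj
  i : u₀ ⟶ u
  Qu₀ : Q u₀
  fac : ∀ a, Q a → ∀ g : a ⟶ u, ∃ g₀, g₀ ≫ i = g
  r₀ : ℬ.obj
  k : r₀ ⟶ r
  Qr₀ : Q r₀
  down : ∀ ⦃a' a : ℬ.obj⦄, (a' ⟶ a) → Q a → Q a'

variable {f : 𝒳 ⥤ᵇ 𝒴} {bot : ℬ ⥤ᵇ 𝒴} (A : ∀ b, UArr f bot b) {Q : ℬ.obj → Prop}

/-- The value at `c` of a section over the chart, through a morphism to the chart. -/
theorem existsUnique_value (h𝒳 : IsFibGrpd 𝒳.p) (h𝒴 : IsFibGrpd 𝒴.p) {u : ℬ.obj} {su : ℬ.p.obj u ⟶ Z A u}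
    (hsu : su ≫ prj A u = 𝟙 _) {c : ℬ.obj} (m : c ⟶ u) :
    ∃! s : ℬ.p.obj c ⟶ Z A c, s ≫ zmap A m = ℬ.p.map m ≫ su ∧ s ≫ prj A c = 𝟙 _ :=
  existsUnique_lift A h𝒳 h𝒴 m _ _ (by rw [Category.assoc, hsu]; simp)

/-- Unique extension from the chart. -/
theorem extends_of_chart (h𝒳 : IsFibGrpd 𝒳.p) (h𝒴 : IsFibGrpd 𝒴.p) (hℬ : IsFibGrpd ℬ.p) (D : Chart Q)
    (hu : ∀ g : ℬ.p.obj D.u₀ ⟶ Z A D.u, g ≫ prj A D.u = ℬ.p.map D.i →
      ∃! s : ℬ.p.obj D.u ⟶ Z A D.u, s ≫ prj A D.u = 𝟙 _ ∧ ℬ.p.map D.i ≫ s = g)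
    (hr : ∀ s s' : ℬ.p.obj D.r ⟶ Z A D.r, s ≫ prj A D.r = 𝟙 _ → s' ≫ prj A D.r = 𝟙 _ →
      ℬ.p.map D.k ≫ s = ℬ.p.map D.k ≫ s' → s = s') :
    Extends Q A := by
  intro σ₀ hσ₀
  obtain ⟨su, ⟨hsu, hsu'⟩, hsu_uniq⟩ := hu (σ₀ D.u₀ D.Qu₀ ≫ zmap A D.i)
    (by rw [Category.assoc, zmap_prj, reassoc_of% hσ₀.1])
  -- the value at an object mapping to the chart
  let sc : ∀ {c : ℬ.obj}, (c ⟶ D.u) → (ℬ.p.obj c ⟶ Z A c) := fun m =>
    (existsUnique_value A h𝒳 h𝒴 hsu m).exists.choose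
  have hsc : ∀ {c : ℬ.obj} (m : c ⟶ D.u), sc m ≫ zmap A m = ℬ.p.map m ≫ su ∧ sc m ≫ prj A c = 𝟙 _ := fun m =>
    (existsUnique_value A h𝒳 h𝒴 hsu m).exists.choose_spec
  have hnat : ∀ {c' c : ℬ.obj} (k : c' ⟶ c) (m : c ⟶ D.u), sc (k ≫ m) ≫ zmap A k = ℬ.p.map k ≫ sc m := by
    intro c' c k m
    refine zmap_hom_ext A h𝒳 h𝒴 m ?_ ?_
    · rw [Category.assoc, zmap_comp, (hsc (k ≫ m)).1, Category.assoc, (hsc m).1, ℬ.p.map_comp, Category.assoc]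
    · rw [Category.assoc, zmap_prj, reassoc_of% (hsc (k ≫ m)).2, Category.assoc, (hsc m).2, Category.comp_id]
  have hQval : ∀ a (h : Q a) (g : a ⟶ D.u), sc g = σ₀ a h := by
    intro a h g
    obtain ⟨g₀, rfl⟩ := D.fac a h g
    refine zmap_hom_ext A h𝒳 h𝒴 (g₀ ≫ D.i) ?_ (by rw [(hsc _).2, hσ₀.1])
    rw [(hsc _).1, ℬ.p.map_comp, Category.assoc, hsu', ← Category.assoc, ← hσ₀.2 g₀ h D.Qu₀, Category.assoc,
      zmap_comp]
  have hindep : ∀ {c : ℬ.obj} (m₁ m₂ : c ⟶ D.u), sc m₁ = sc m₂ := by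
    have h12 : sc D.p₁ = sc D.p₂ := by
      refine hr _ _ (hsc _).2 (hsc _).2 ?_
      rw [← hnat, ← hnat, hQval _ D.Qr₀, hQval _ D.Qr₀]
    intro c m₁ m₂
    obtain ⟨l, rfl, rfl⟩ := D.pair c m₁ m₂
    refine zmap_hom_ext A h𝒳 h𝒴 l ?_ (by rw [(hsc _).2, (hsc _).2])
    rw [hnat, hnat, h12]
  -- agreement after a cover
  have hdesc : ∀ b, ∃ s : ℬ.p.obj b ⟶ Z A b, ∀ (c : ℬ.obj) (k : c ⟶ b) (m : c ⟶ D.u),
      ℬ.p.map k ≫ s = sc m ≫ zmap A k := by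
    intro b
    obtain ⟨b', n, m', hn₁, hn₂, hn₃⟩ := D.cov b
    haveI := hn₁; haveI := hn₂; haveI := hn₃
    let v : ℬ.p.obj b' ⟶ Z A b := sc m' ≫ zmap A n
    have hv : ∀ {W : Scheme.{u}} (g₁ g₂ : W ⟶ (ℬ.p.obj b').left),
        g₁ ≫ (ℬ.p.map n).left = g₂ ≫ (ℬ.p.map n).left → g₁ ≫ v.left = g₂ ≫ v.left := by
      intro W g₁ g₂ hg
      let W' : Over S := Over.mk (g₁ ≫ (ℬ.p.obj b').hom)
      let G₁ : W' ⟶ ℬ.p.obj b' := Over.homMk g₁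
      let G₂ : W' ⟶ ℬ.p.obj b' := Over.homMk g₂ (by
        show g₂ ≫ _ = g₁ ≫ _
        rw [← Over.w (ℬ.p.map n), ← Category.assoc, ← hg, Category.assoc])
      obtain ⟨c, h₁, ec, hh₁⟩ := fibGrpd_lift hℬ b' G₁
      obtain ⟨h₂, ⟨hh₂, hh⟩, -⟩ := fibGrpd_fac hℬ n (h₁ ≫ n) (eqToHom ec ≫ G₂) (by
        rw [ℬ.p.map_comp, hh₁, Category.assoc, Category.assoc]
        refine congrArg (eqToHom ec ≫ ·) ?_
        exact Over.OverMorphism.ext hg.symm)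
      have e : G₁ ≫ v = G₂ ≫ v := by
        rw [← cancel_epi (eqToHom ec), ← reassoc_of% hh₁, ← reassoc_of% hh₂]
        show ℬ.p.map h₁ ≫ sc m' ≫ zmap A n = ℬ.p.map h₂ ≫ sc m' ≫ zmap A n
        rw [← Category.assoc, ← hnat, Category.assoc, zmap_comp, ← Category.assoc, ← hnat, Category.assoc, zmap_comp,
          hh, hindep (h₁ ≫ m') (h₂ ≫ m')]
      exact congrArg CommaMorphism.left e
    have hs : (ℬ.p.map n).left ≫ EffectiveEpi.desc (ℬ.p.map n).left v.left hv = v.left :=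
      EffectiveEpi.fac _ _ _
    let s : ℬ.p.obj b ⟶ Z A b := Over.homMk (EffectiveEpi.desc (ℬ.p.map n).left v.left hv) (by
      rw [← cancel_epi (ℬ.p.map n).left, reassoc_of% hs, Over.w, Over.w])
    refine ⟨s, fun c k m => ?_⟩
    -- compare on the pulled back cover
    let P := pullback (ℬ.p.map k).left (ℬ.p.map n).left
    let q : P ⟶ (ℬ.p.obj c).left := pullback.fst _ _
    haveI : Flat q := MorphismProperty.pullback_fst (P := @Flat) _ _ hn₁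
    haveI : LocallyOfFinitePresentation q := MorphismProperty.pullback_fst (P := @LocallyOfFinitePresentation) _ _ hn₂
    haveI : Surjective q := MorphismProperty.pullback_fst (P := @Surjective) _ _ hn₃
    let W' : Over S := Over.mk (q ≫ (ℬ.p.obj c).hom)
    let G : W' ⟶ ℬ.p.obj c := Over.homMk q
    let G' : W' ⟶ ℬ.p.obj b' := Over.homMk (pullback.snd _ _) (by
      show pullback.snd _ _ ≫ _ = q ≫ _
      rw [← Over.w (ℬ.p.map n), ← pullback.condition_assoc, Over.w])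
    obtain ⟨c', h, ec, hh⟩ := fibGrpd_lift hℬ c G
    obtain ⟨h', ⟨hh', hhn⟩, -⟩ := fibGrpd_fac hℬ n (h ≫ k) (eqToHom ec ≫ G') (by
      rw [ℬ.p.map_comp, hh, Category.assoc, Category.assoc]
      exact congrArg (eqToHom ec ≫ ·) (Over.OverMorphism.ext pullback.condition.symm))
    have e : eqToHom ec ≫ G ≫ ℬ.p.map k ≫ s = eqToHom ec ≫ G ≫ sc m ≫ zmap A k := by
      rw [← reassoc_of% hh, ← reassoc_of% hh, ← ℬ.p.map_comp_assoc, ← hhn, ℬ.p.map_comp_assoc]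
      have hns : ℬ.p.map n ≫ s = v := Over.OverMorphism.ext hs
      rw [hns]
      show ℬ.p.map h' ≫ sc m' ≫ zmap A n = ℬ.p.map h ≫ sc m ≫ zmap A k
      rw [← Category.assoc, ← hnat, Category.assoc, zmap_comp, ← Category.assoc, ← hnat, Category.assoc, zmap_comp,
        hhn, hindep (h' ≫ m') (h ≫ m)]
    have e' := congrArg CommaMorphism.left ((cancel_epi (eqToHom ec)).1 e)
    exact Over.OverMorphism.ext ((cancel_epi q).1 e')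
  choose σ hσ using hdesc
  have epi : ∀ {b' b : ℬ.obj} (n : b' ⟶ b), Flat (ℬ.p.map n).left →
      LocallyOfFinitePresentation (ℬ.p.map n).left → Surjective (ℬ.p.map n).left →
      ∀ {Y : Over S} (x y : ℬ.p.obj b ⟶ Y), ℬ.p.map n ≫ x = ℬ.p.map n ≫ y → x = y := by
    intro b' b n _ _ _ Y x y h
    exact Over.OverMorphism.ext ((cancel_epi (ℬ.p.map n).left).1 (congrArg CommaMorphism.left h))
  have hσprj : ∀ b, σ b ≫ prj A b = 𝟙 _ := fun b => by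
    obtain ⟨b', n, m', h1, h2, h3⟩ := D.cov b
    refine epi n h1 h2 h3 _ _ ?_
    rw [← Category.assoc, hσ b b' n m', Category.assoc, zmap_prj, reassoc_of% (hsc m').2, Category.comp_id]
  have hσnat : ∀ ⦃b' b : ℬ.obj⦄ (n : b' ⟶ b), σ b' ≫ zmap A n = ℬ.p.map n ≫ σ b := fun b₁ b n => by
    obtain ⟨c, k, m, h1, h2, h3⟩ := D.cov b₁
    refine epi k h1 h2 h3 _ _ ?_
    rw [← Category.assoc, hσ b₁ c k m, Category.assoc, zmap_comp, ← Category.assoc, ← ℬ.p.map_comp,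
      hσ b c (k ≫ n) m]
  have hσQ : ∀ a (h : Q a), σ a = σ₀ a h := fun a h => by
    obtain ⟨c, k, m, h1, h2, h3⟩ := D.cov a
    refine epi k h1 h2 h3 _ _ ?_
    rw [hσ a c k m, hQval c (D.down k h) m, hσ₀.2 k _ h]
  refine ⟨σ, ⟨⟨hσprj, hσnat⟩, hσQ⟩, fun τ ⟨hτ, hτQ⟩ => funext fun b => ?_⟩
  have hτu : τ D.u = su := hsu_uniq _ ⟨hτ.1 _, by
    show ℬ.p.map D.i ≫ τ D.u = σ₀ D.u₀ D.Qu₀ ≫ zmap A D.i
    rw [← hτ.2 D.i, hτQ]⟩
  obtain ⟨c, k, m, h1, h2, h3⟩ := D.cov b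
  refine epi k h1 h2 h3 _ _ ?_
  rw [hσ b c k m, ← hτ.2 k]
  refine congrArg (· ≫ zmap A k) (zmap_hom_ext A h𝒳 h𝒴 m ?_ ?_)
  · rw [hτ.2 m, hτu, (hsc m).1]
  · rw [hτ.1, (hsc m).2]

end Groth.Agent.Stk19b.Theta
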