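import Groth.Agent.Stk19b.Theta.Arrow
import Groth.Agent.Stk19b.Theta.Formal
import Groth.Prelude.Def_AlgSt3

/-! Dotted arrows from natural families of sections of universal arrows. -/

set_option autoImplicit false
set_option backward.isDefEq.respectTransparency false
set_option backward.isDefEq.respectTransparency.types false

universe u

open CategoryTheory AlgebraicGeometry FibCat LiftSq Groth.Agent.Stk19

namespace Groth.Agent.Stk19b.Theta

variable {S : Scheme.{u}} {ℬ 𝒳 𝒴 : AlgSt.Cat S} (Q : ℬ.obj → Prop)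
  {f : 𝒳 ⥤ᵇ 𝒴}

section

variable {bot : ℬ ⥤ᵇ 𝒴} (A : ∀ b, UArr f bot b)

/-- A natural family of sections. -/
def IsNat (σ : ∀ b, ℬ.p.obj b ⟶ Z A b) : Prop :=
  (∀ b, σ b ≫ prj A b = 𝟙 _) ∧ ∀ ⦃b' b⦄ (n : b' ⟶ b), σ b' ≫ zmap A n = ℬ.p.map n ≫ σ b

/-- A natural family of sections on the objects satisfying `Q`. -/
def IsNatOn (σ : ∀ b, Q b → (ℬ.p.obj b ⟶ Z A b)) : Prop :=
  (∀ b h, σ b h ≫ prj A b = 𝟙 _) ∧ ∀ ⦃b' b⦄ (n : b' ⟶ b) h' h, σ b' h' ≫ zmap A n = ℬ.p.map n ≫ σ b h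

/-- Partial natural families extend uniquely. -/
def Extends : Prop :=
  ∀ σ₀, IsNatOn Q A σ₀ → ∃! σ, IsNat A σ ∧ ∀ b h, σ b = σ₀ b h

theorem exists_functor (h𝒳 : IsFibGrpd 𝒳.p) (h𝒴 : IsFibGrpd 𝒴.p) {σ : ∀ b, ℬ.p.obj b ⟶ Z A b}
    (hσ : IsNat A σ) :
    ∃ (d : ℬ ⥤ᵇ 𝒳) (e : bot ≅ BasedFunctor.comp d f),
      ∀ b, σOf A (d.w_obj b) (e.inv.toNatTrans.app b) = σ b := by
  choose x κ ex hκ using fun b => fibGrpd_lift h𝒳 (A b).x (σ b)
  have hm : ∀ ⦃b' b⦄ (n : b' ⟶ b), ∃! ψ : x b' ⟶ x b,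
      𝒳.p.map ψ = eqToHom (ex b') ≫ ℬ.p.map n ≫ eqToHom (ex b).symm ∧ ψ ≫ κ b = κ b' ≫ arr A n := fun b' b n =>
    fibGrpd_fac h𝒳 (κ b) (κ b' ≫ arr A n) _ (by
      rw [𝒳.p.map_comp, hκ, hκ]
      simp only [Category.assoc, eqToHom_trans_assoc, eqToHom_refl, Category.id_comp]
      exact congrArg (eqToHom (ex b') ≫ ·) (hσ.2 n).symm)
  let mp : ∀ {b' b : ℬ.obj}, (b' ⟶ b) → (x b' ⟶ x b) := fun n => (hm n).exists.choose
  have hmp : ∀ {b' b : ℬ.obj} (n : b' ⟶ b),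
      𝒳.p.map (mp n) = eqToHom (ex b') ≫ ℬ.p.map n ≫ eqToHom (ex b).symm ∧ mp n ≫ κ b = κ b' ≫ arr A n :=
    fun n => (hm n).exists.choose_spec
  let F : ℬ.obj ⥤ 𝒳.obj :=
    { obj := x
      map := mp
      map_id := fun b => (hm (𝟙 b)).unique (hmp (𝟙 b)) ⟨by simp, by rw [arr_id]; simp⟩
      map_comp := fun {b'' b' b} k n => (hm (k ≫ n)).unique (hmp (k ≫ n)) ⟨by
          rw [𝒳.p.map_comp, (hmp k).1, (hmp n).1, ℬ.p.map_comp]; simp, by
          rw [Category.assoc, (hmp n).2, reassoc_of% (hmp k).2, arr_comp]⟩ }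
  let d : ℬ ⥤ᵇ 𝒳 :=
    { toFunctor := F
      w := CategoryTheory.Functor.ext ex (fun b' b n => (hmp n).1) }
  let m : ∀ b, f.obj (x b) ⟶ bot.obj b := fun b => f.map (κ b) ≫ (A b).m
  have hv : ∀ b, 𝒴.p.map (m b) =
      eqToHom ((f.w_obj (x b)).trans ((ex b).trans (bot.w_obj b).symm)) := fun b => by
    rw [𝒴.p.map_comp, based_map f, p_m, hκ]
    simp only [Category.assoc, eqToHom_trans_assoc, eqToHom_refl, Category.id_comp]
    rw [reassoc_of% hσ.1 b]
    simp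
  haveI : ∀ b, IsIso (m b) := fun b =>
    haveI : IsIso (𝒴.p.map (m b)) := by rw [hv b]; infer_instance
    fibGrpd_isIso h𝒴 _
  let e : bot ≅ BasedFunctor.comp d f :=
    (isoMk (fun b => asIso (m b))
      (fun b => vert_of_map_eq 𝒴.p (hv b))
      (fun {b' b} n => by
        show f.map (mp n) ≫ f.map (κ b) ≫ (A b).m = (f.map (κ b') ≫ (A b').m) ≫ bot.map n
        rw [← f.toFunctor.map_comp_assoc, (hmp n).2, f.toFunctor.map_comp_assoc, arr_spec, Category.assoc]) :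
      BasedFunctor.comp d f ≅ bot).symm
  refine ⟨d, e, fun b => ?_⟩
  have hk : κ b = κOf A (e.inv.toNatTrans.app b) := κOf_eq A rfl
  rw [σOf, ← hk, hκ]
  simp

end

theorem inv_bot_eq {sq : Sq (AlgSt.subIncl ℬ Q) f} (e : sq.Lift) (a : (AlgSt.fullSub ℬ Q).obj) :
    e.isoBot.inv.toNatTrans.app a.obj = f.map (e.isoTop.hom.toNatTrans.app a) ≫ sq.iso.inv.toNatTrans.app a := by
  have hw : e.isoBot.hom.toNatTrans.app a.obj ≫ f.map (e.isoTop.hom.toNatTrans.app a) =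
      sq.iso.hom.toNatTrans.app a := congrArg (fun z => z.toNatTrans.app a) e.w
  have h1 : sq.iso.hom.toNatTrans.app a ≫ sq.iso.inv.toNatTrans.app a = 𝟙 _ := (appIso sq.iso a).hom_inv_id
  have h2 : e.isoBot.inv.toNatTrans.app a.obj ≫ e.isoBot.hom.toNatTrans.app a.obj = 𝟙 _ :=
    (appIso e.isoBot a.obj).inv_hom_id
  refine ((Category.comp_id _).symm.trans (congrArg (_ ≫ ·) h1.symm)).trans ?_
  rw [← hw, Category.assoc]
  exact (Category.assoc _ _ _).symm.trans ((congrArg (· ≫ _) h2).trans (Category.id_comp _))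

/-- Unique filling from unique extension of natural families of sections. -/
theorem liftsUniquely_of_extends (h𝒳 : IsFibGrpd 𝒳.p) (h𝒴 : IsFibGrpd 𝒴.p) (hℬ : IsFibGrpd ℬ.p)
    (hA : ∀ bot : ℬ ⥤ᵇ 𝒴, ∃ A : ∀ b, UArr f bot b, Extends Q A) :
    LiftsUniquely (AlgSt.subIncl ℬ Q) f := by
  intro sq
  obtain ⟨A, hext⟩ := hA sq.bot
  have hex : ∀ b (h : Q b), 𝒳.p.obj (sq.top.obj ⟨b, h⟩) = ℬ.p.obj b := fun b h => sq.top.w_obj ⟨b, h⟩
  let σ₀ : ∀ b, Q b → (ℬ.p.obj b ⟶ Z A b) := fun b h => σOf A (hex b h) (sq.iso.inv.toNatTrans.app ⟨b, h⟩)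
  have hσ₀ : IsNatOn Q A σ₀ := by
    refine ⟨fun b h => σOf_prj A _ ⟨_, based_app_map sq.iso.inv ⟨b, h⟩⟩, fun b' b n h' h => ?_⟩
    have hn : f.map (sq.top.map (ObjectProperty.homMk n)) ≫ sq.iso.inv.toNatTrans.app ⟨b, h⟩ =
        sq.iso.inv.toNatTrans.app ⟨b', h'⟩ ≫ sq.bot.map n :=
      sq.iso.inv.toNatTrans.naturality (ObjectProperty.homMk n : (⟨b', h'⟩ : (AlgSt.fullSub ℬ Q).obj) ⟶ ⟨b, h⟩)
    exact σOf_natural A n _ _ (sq.top.map (ObjectProperty.homMk n))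
      (by rw [based_map sq.top]; rfl) hn.symm
  obtain ⟨σ, ⟨hσ, hσQ⟩, huniq⟩ := hext σ₀ hσ₀
  refine ⟨?_, fun d d' => ?_⟩
  · obtain ⟨d, e, he⟩ := exists_functor A h𝒳 h𝒴 hσ
    have hc : ∀ a : (AlgSt.fullSub ℬ Q).obj, ∃! θ : d.obj a.obj ⟶ sq.top.obj a,
        𝒳.p.map θ = eqToHom ((d.w_obj a.obj).trans (hex a.obj a.property).symm) ∧
          f.map θ ≫ sq.iso.inv.toNatTrans.app a = e.inv.toNatTrans.app a.obj := fun a =>
      exists_unique_compare A h𝒳 (d.w_obj a.obj) (hex a.obj a.property) ((he a.obj).trans (hσQ a.obj a.property))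
    choose θ hθ using fun a => (hc a).exists
    haveI : ∀ a, IsIso (θ a) := fun a =>
      haveI : IsIso (𝒳.p.map (θ a)) := by rw [(hθ a).1]; infer_instance
      fibGrpd_isIso h𝒳 _
    have hnat : ∀ {a' a : (AlgSt.fullSub ℬ Q).obj} (φ : a' ⟶ a),
        d.map φ.hom ≫ θ a = θ a' ≫ sq.top.map φ := by
      intro a' a φ
      have k : ∀ g : d.obj a'.obj ⟶ sq.top.obj a,
          f.map g ≫ sq.iso.inv.toNatTrans.app a = e.inv.toNatTrans.app a'.obj ≫ sq.bot.map φ.hom →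
          g ≫ κOf A (sq.iso.inv.toNatTrans.app a) = κOf A (e.inv.toNatTrans.app a'.obj ≫ sq.bot.map φ.hom) :=
        fun g hg => κOf_eq A (by rw [f.toFunctor.map_comp, Category.assoc, κOf_spec, hg])
      refine fibGrpd_ext h𝒳 (κOf A (sq.iso.inv.toNatTrans.app a)) ?_ ((k _ ?_).trans (k _ ?_).symm)
      · rw [𝒳.p.map_comp, 𝒳.p.map_comp, (hθ a).1, (hθ a').1, based_map d, based_map sq.top]
        simp
      · rw [f.toFunctor.map_comp, Category.assoc, (hθ a).2]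
        exact e.inv.toNatTrans.naturality φ.hom
      · rw [f.toFunctor.map_comp, Category.assoc]
        refine (congrArg (f.map (θ a') ≫ ·) (sq.iso.inv.toNatTrans.naturality φ)).trans ?_
        exact (Category.assoc _ _ _).symm.trans (congrArg (· ≫ sq.bot.map φ.hom) (hθ a').2)
    exact ⟨{
      fn := d
      isoTop := isoMk (fun a => asIso (θ a)) (fun a => vert_of_map_eq 𝒳.p (hθ a).1) hnat
      isoBot := e
      w := nat_ext fun a => by
        show e.hom.toNatTrans.app a.obj ≫ f.map (θ a) = sq.iso.hom.toNatTrans.app a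
        have h1 : sq.iso.inv.toNatTrans.app a ≫ sq.iso.hom.toNatTrans.app a = 𝟙 _ := (appIso sq.iso a).inv_hom_id
        have h2 : e.hom.toNatTrans.app a.obj ≫ e.inv.toNatTrans.app a.obj = 𝟙 _ := (appIso e a.obj).hom_inv_id
        have h1' : sq.iso.hom.toNatTrans.app a ≫ sq.iso.inv.toNatTrans.app a = 𝟙 _ := (appIso sq.iso a).hom_inv_id
        refine (cancel_mono (appIso sq.iso a).inv).1 ((Category.assoc _ _ _).trans ?_)
        exact (congrArg (e.hom.toNatTrans.app a.obj ≫ ·) (hθ a).2).trans (h2.trans h1'.symm) }⟩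
  · let σd : ∀ e : sq.Lift, ∀ b, ℬ.p.obj b ⟶ Z A b :=
      fun e b => σOf A (e.fn.w_obj b) (e.isoBot.inv.toNatTrans.app b)
    have hd : ∀ e : sq.Lift, σd e = σ := fun e => huniq _ ⟨⟨fun b => σOf_prj A _ ⟨_, based_app_map e.isoBot.inv b⟩,
      fun b' b n => σOf_natural A n _ _ (e.fn.map n) (based_map e.fn n)
        (e.isoBot.inv.toNatTrans.naturality n).symm⟩, fun b h => by
      have hκ : e.isoTop.hom.toNatTrans.app ⟨b, h⟩ ≫ κOf A (sq.iso.inv.toNatTrans.app ⟨b, h⟩) =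
          κOf A (e.isoBot.inv.toNatTrans.app b) :=
        κOf_eq A (by rw [f.toFunctor.map_comp, Category.assoc, κOf_spec]; exact (inv_bot_eq Q e ⟨b, h⟩).symm)
      show σOf A _ _ = σOf A _ _
      rw [σOf, σOf, ← hκ, 𝒳.p.map_comp, based_app_map e.isoTop.hom]
      simp⟩
    have hθ : ∀ b, ∃! θ : d.fn.obj b ⟶ d'.fn.obj b,
        𝒳.p.map θ = eqToHom ((d.fn.w_obj b).trans (d'.fn.w_obj b).symm) ∧
          f.map θ ≫ d'.isoBot.inv.toNatTrans.app b = d.isoBot.inv.toNatTrans.app b := fun b =>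
      exists_unique_compare A h𝒳 (d.fn.w_obj b) (d'.fn.w_obj b) ((congrFun (hd d) b).trans (congrFun (hd d') b).symm)
    choose θ hθ' using fun b => (hθ b).exists
    have kext : ∀ {x : 𝒳.obj} (b : ℬ.obj) (g g' : x ⟶ d'.fn.obj b), 𝒳.p.map g = 𝒳.p.map g' →
        f.map g ≫ d'.isoBot.inv.toNatTrans.app b = f.map g' ≫ d'.isoBot.inv.toNatTrans.app b → g = g' := by
      intro x b g g' h1 h2
      refine fibGrpd_ext h𝒳 (κOf A (d'.isoBot.inv.toNatTrans.app b)) h1 ((κOf_eq A (m' := f.map g ≫ d'.isoBot.inv.toNatTrans.app b) ?_).trans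
        (κOf_eq A (m' := f.map g ≫ d'.isoBot.inv.toNatTrans.app b) ?_).symm)
      · rw [f.toFunctor.map_comp, Category.assoc, κOf_spec]
      · rw [f.toFunctor.map_comp, Category.assoc, κOf_spec, h2]
    have hi : ∀ b, d'.isoBot.hom.toNatTrans.app b ≫ d'.isoBot.inv.toNatTrans.app b = 𝟙 _ :=
      fun b => (appIso d'.isoBot b).hom_inv_id
    have hi' : ∀ b, d'.isoBot.inv.toNatTrans.app b ≫ d'.isoBot.hom.toNatTrans.app b = 𝟙 _ :=
      fun b => (appIso d'.isoBot b).inv_hom_id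
    have hj : ∀ b, d.isoBot.hom.toNatTrans.app b ≫ d.isoBot.inv.toNatTrans.app b = 𝟙 _ :=
      fun b => (appIso d.isoBot b).hom_inv_id
    let α : d.fn ⟶ d'.fn :=
      { toNatTrans :=
          { app := θ
            naturality := fun b' b n => kext b _ _ (by
                rw [𝒳.p.map_comp, 𝒳.p.map_comp, (hθ' b').1, (hθ' b).1, based_map d.fn, based_map d'.fn]
                simp) (by
                rw [f.toFunctor.map_comp, f.toFunctor.map_comp, Category.assoc, Category.assoc, (hθ' b).2]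
                refine (d.isoBot.inv.toNatTrans.naturality n).trans ?_
                rw [← (hθ' b').2, Category.assoc]
                exact congrArg (f.map (θ b') ≫ ·) (d'.isoBot.inv.toNatTrans.naturality n).symm) }
        isHomLift' := fun b => vert_change 𝒳.p _ (vert_of_map_eq 𝒳.p (hθ' b).1) (d.fn.w_obj b) }
    have htop := fun (e : sq.Lift) a => inv_bot_eq Q e a
    refine ⟨⟨⟨⟨α, nat_ext fun a => ?_, nat_ext fun b => ?_⟩⟩, fun β => Sq.Lift.hom_ext (nat_ext fun b => ?_)⟩⟩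
    · show θ a.obj ≫ d'.isoTop.hom.toNatTrans.app a = d.isoTop.hom.toNatTrans.app a
      refine fibGrpd_ext h𝒳 (κOf A (sq.iso.inv.toNatTrans.app a)) ?_ ((κOf_eq A (m' := d.isoBot.inv.toNatTrans.app a.obj) ?_).trans
        (κOf_eq A (m' := d.isoBot.inv.toNatTrans.app a.obj) ?_).symm)
      · rw [𝒳.p.map_comp, (hθ' a.obj).1, based_app_map d.isoTop.hom, based_app_map d'.isoTop.hom]
        simp
      · rw [f.toFunctor.map_comp, Category.assoc]
        refine (congrArg (f.map (θ a.obj ≫ d'.isoTop.hom.toNatTrans.app a) ≫ ·) (κOf_spec A _)).trans ?_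
        refine ((congrArg (· ≫ sq.iso.inv.toNatTrans.app a) (f.toFunctor.map_comp _ _)).trans (Category.assoc _ _ _)).trans ?_
        exact (congrArg (f.map (θ a.obj) ≫ ·) (htop d' a).symm).trans (hθ' a.obj).2
      · rw [f.toFunctor.map_comp, Category.assoc]
        exact (congrArg (f.map (d.isoTop.hom.toNatTrans.app a) ≫ ·) (κOf_spec A _)).trans (htop d a).symm
    · show d.isoBot.hom.toNatTrans.app b ≫ f.map (θ b) = d'.isoBot.hom.toNatTrans.app b
      rw [← Category.comp_id (f.map (θ b))]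
      refine (congrArg (fun z => d.isoBot.hom.toNatTrans.app b ≫ f.map (θ b) ≫ z) (hi' b).symm).trans ?_
      rw [reassoc_of% (hθ' b).2, reassoc_of% (hj b)]
    · refine kext b _ _ ?_ ?_
      · exact (based_app_map β.hom b).trans ((hθ' b).1).symm
      · have hb : d.isoBot.hom.toNatTrans.app b ≫ f.map (β.hom.toNatTrans.app b) = d'.isoBot.hom.toNatTrans.app b :=
          congrArg (fun z => z.toNatTrans.app b) β.w_bot
        have hb' : d.isoBot.inv.toNatTrans.app b ≫ d'.isoBot.hom.toNatTrans.app b = f.map (β.hom.toNatTrans.app b) := by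
          rw [← hb, ← Category.assoc]
          exact (congrArg (· ≫ _) (appIso d.isoBot b).inv_hom_id).trans (Category.id_comp _)
        rw [← hb', Category.assoc, hi]
        exact (Category.comp_id _).trans ((hθ' b).2).symm

end Groth.Agent.Stk19b.Theta
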