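import Groth.Agent.Stk19b.Theta.QuotChart
import Groth.Agent.Stk19.AlgSt.SepRep

/-! Uniqueness of liftings against a functor for morphisms with closed diagonal. -/

set_option autoImplicit false
set_option linter.style.haveILetI false
set_option backward.isDefEq.respectTransparency false
set_option backward.isDefEq.respectTransparency.types false

universe u

open CategoryTheory CategoryTheory.Limits AlgebraicGeometry FibCat Groth.Agent.Stk19

namespace Groth.Agent.Stk19b.Theta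

variable {S : Scheme.{u}} {𝒳 𝒴 𝒜 ℬ : AlgSt.Cat S}

/-- Sections of monomorphic universal arrows pull back along morphisms. -/
theorem exists_section_of_hom {f : 𝒳 ⥤ᵇ 𝒴} {bot : ℬ ⥤ᵇ 𝒴} (A : ∀ b, UArr f bot b) (h𝒳 : IsFibGrpd 𝒳.p)
    (h𝒴 : IsFibGrpd 𝒴.p) {b' b : ℬ.obj} (n : b' ⟶ b) (h : ∃ s : ℬ.p.obj b ⟶ Z A b, s ≫ prj A b = 𝟙 _) :
    ∃ s : ℬ.p.obj b' ⟶ Z A b', s ≫ prj A b' = 𝟙 _ := by
  obtain ⟨s, hs⟩ := h
  obtain ⟨l, ⟨-, hl⟩, -⟩ := existsUnique_lift A h𝒳 h𝒴 n (ℬ.p.map n ≫ s) (𝟙 _)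
    (by rw [Category.assoc, hs]; simp)
  exact ⟨l, hl⟩

/-- Sections descend along covers when the universal arrows are monomorphisms. -/
theorem exists_section_of_cover {f : 𝒳 ⥤ᵇ 𝒴} {bot : ℬ ⥤ᵇ 𝒴} (A : ∀ b, UArr f bot b) {b' b : ℬ.obj} (n : b' ⟶ b)
    [Flat (ℬ.p.map n).left] [LocallyOfFinitePresentation (ℬ.p.map n).left] [Surjective (ℬ.p.map n).left]
    [Mono (prj A b).left] (h : ∃ s : ℬ.p.obj b' ⟶ Z A b', s ≫ prj A b' = 𝟙 _) :
    ∃ s : ℬ.p.obj b ⟶ Z A b, s ≫ prj A b = 𝟙 _ := by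
  obtain ⟨s, hs⟩ := h
  have hv : (s ≫ zmap A n) ≫ prj A b = ℬ.p.map n := by
    rw [Category.assoc, zmap_prj, reassoc_of% hs]
  have hv' : (s ≫ zmap A n).left ≫ (prj A b).left = (ℬ.p.map n).left := congrArg CommaMorphism.left hv
  have hd : ∀ {W : Scheme.{u}} (g₁ g₂ : W ⟶ (ℬ.p.obj b').left),
      g₁ ≫ (ℬ.p.map n).left = g₂ ≫ (ℬ.p.map n).left → g₁ ≫ (s ≫ zmap A n).left = g₂ ≫ (s ≫ zmap A n).left := by
    intro W g₁ g₂ hg
    rw [← cancel_mono (prj A b).left, Category.assoc, Category.assoc, hv', hg]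
  let v := EffectiveEpi.desc (ℬ.p.map n).left (s ≫ zmap A n).left hd
  have h1 : (ℬ.p.map n).left ≫ v = (s ≫ zmap A n).left := EffectiveEpi.fac _ _ _
  have h2 : v ≫ (prj A b).left = 𝟙 _ := by
    rw [← cancel_epi (ℬ.p.map n).left, reassoc_of% h1, hv', Category.comp_id]
  refine ⟨Over.homMk v (by rw [← Over.w (prj A b), reassoc_of% h2]), ?_⟩
  exact Over.OverMorphism.ext h2

/-- If the universal arrows of the pairs of liftings all have sections, liftings are unique. -/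
theorem liftsUnique_of_sections (h𝒳 : IsFibGrpd 𝒳.p) (h𝒴 : IsFibGrpd 𝒴.p) (j : 𝒜 ⥤ᵇ ℬ) (f : 𝒳 ⥤ᵇ 𝒴)
    [f.toFunctor.Faithful] (hd : AlgSt.RepByAlgSpWith (AlgSp.RepWith @IsClosedImmersion) (FibCat.diag f))
    (H : ∀ (bot : ℬ ⥤ᵇ fp f f) (A : ∀ b, UArr (FibCat.diag f) bot b),
      (∀ b, IsClosedImmersion (prj A b).left) →
      (∀ a, ∃ s : ℬ.p.obj (j.obj a) ⟶ Z A (j.obj a), s ≫ prj A (j.obj a) = 𝟙 _) →
      ∀ b, ∃ s : ℬ.p.obj b ⟶ Z A b, s ≫ prj A b = 𝟙 _) :
    LiftSq.LiftsUnique j f := by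
  intro sq d d'
  have hfp := fibGrpd_fp h𝒳 h𝒳 h𝒴 f f
  let c : BasedFunctor.comp d.fn f ≅ BasedFunctor.comp d'.fn f := d.isoBot.symm ≪≫ d'.isoBot
  let bot : ℬ ⥤ᵇ fp f f := fpLift d.fn d'.fn c
  choose A hA using fun b => exists_uarr h𝒳 hfp hd bot b
  have hcw : ∀ a, (appIso c (j.obj a)).hom ≫ f.map (d'.isoTop.hom.toNatTrans.app a) =
      f.map (d.isoTop.hom.toNatTrans.app a) := fun a => by
    have h1 : d.isoBot.hom.toNatTrans.app (j.obj a) ≫ f.map (d.isoTop.hom.toNatTrans.app a) =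
      sq.iso.hom.toNatTrans.app a := congrArg (fun t => t.toNatTrans.app a) d.w
    have h2 : d'.isoBot.hom.toNatTrans.app (j.obj a) ≫ f.map (d'.isoTop.hom.toNatTrans.app a) =
      sq.iso.hom.toNatTrans.app a := congrArg (fun t => t.toNatTrans.app a) d'.w
    show (d.isoBot.inv.toNatTrans.app (j.obj a) ≫ d'.isoBot.hom.toNatTrans.app (j.obj a)) ≫ _ = _
    rw [Category.assoc, h2, ← h1]
    exact (appIso d.isoBot (j.obj a)).inv_hom_id_assoc _
  have hj : ∀ a, ∃ s : ℬ.p.obj (j.obj a) ⟶ Z A (j.obj a), s ≫ prj A (j.obj a) = 𝟙 _ := fun a => by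
    let r := j.obj a
    let t : d.fn.obj r ⟶ d'.fn.obj r := (appIso d.isoTop a).hom ≫ (appIso d'.isoTop a).inv
    let m : (FibCat.diag f).obj (d.fn.obj r) ⟶ bot.obj r := fpHom (𝟙 (d.fn.obj r)) t (by
      show f.map (𝟙 _) ≫ (appIso c r).hom = 𝟙 _ ≫ f.map t
      rw [f.toFunctor.map_id, Category.id_comp]
      refine Eq.trans ?_ (Category.id_comp _).symm
      rw [← cancel_mono (f.map (appIso d'.isoTop a).hom), ← f.toFunctor.map_comp]
      refine (hcw a).trans (congrArg f.map ?_)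
      show _ = ((appIso d.isoTop a).hom ≫ (appIso d'.isoTop a).inv) ≫ (appIso d'.isoTop a).hom
      rw [Category.assoc, Iso.inv_hom_id]
      exact (Category.comp_id _).symm)
    obtain ⟨κ, hκ, -⟩ := (A r).univ _ m
    refine ⟨eqToHom (d.fn.w_obj r).symm ≫ 𝒳.p.map κ, ?_⟩
    have h := congrArg (fp f f).p.map hκ
    rw [(fp f f).p.map_comp, p_m, based_map (FibCat.diag f)] at h
    have hm : (fp f f).p.map m = 𝟙 (𝒳.p.obj (d.fn.obj r)) :=
      (show (fp f f).p.map m = 𝒳.p.map (𝟙 (d.fn.obj r)) from rfl).trans (𝒳.p.map_id _)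
    rw [hm] at h
    have h' := congrArg (fun t => eqToHom (d.fn.w_obj r).symm ≫ t ≫ eqToHom (bot.w_obj r)) h
    simp only [Category.assoc, eqToHom_trans_assoc, eqToHom_trans, eqToHom_refl, Category.id_comp, Category.comp_id] at h'
    rw [Category.assoc]
    exact h'
  have hsec := H bot A hA hj
  have hθ : ∀ b, ∃ θ : d.fn.obj b ⟶ d'.fn.obj b, f.map θ = (appIso c b).hom := fun b => by
    obtain ⟨s, hs⟩ := hsec b
    obtain ⟨x, k, ex, hk⟩ := fibGrpd_lift h𝒳 (A b).x s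
    let M := (FibCat.diag f).map k ≫ (A b).m
    have hM : IsIso ((fp f f).p.map M) := by
      rw [(fp f f).p.map_comp, p_m, based_map (FibCat.diag f), hk]
      simp only [Category.assoc, eqToHom_trans_assoc, eqToHom_refl, Category.id_comp, reassoc_of% hs]
      infer_instance
    haveI := fibGrpd_isIso hfp M
    haveI : IsIso M.hom.fst := inferInstanceAs (IsIso ((fpFst f f).map M))
    have hw : f.map M.hom.fst ≫ (appIso c b).hom = 𝟙 _ ≫ f.map M.hom.snd := M.hom.w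
    rw [Category.id_comp] at hw
    refine ⟨inv M.hom.fst ≫ M.hom.snd, ?_⟩
    rw [f.toFunctor.map_comp, ← hw]
    exact (f.toFunctor.map_comp_assoc _ _ _).symm.trans (by rw [IsIso.inv_hom_id, f.toFunctor.map_id]; exact Category.id_comp _)
  choose θ hθ using hθ
  let app : ∀ b, d.fn.obj b ⟶ d'.fn.obj b := θ
  let Θ : d.fn ⟶ d'.fn :=
    { toNatTrans :=
        { app := app
          naturality := fun b b' n => f.toFunctor.map_injective (by
            rw [f.toFunctor.map_comp, f.toFunctor.map_comp]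
            show f.map (d.fn.map n) ≫ f.map (θ b') = f.map (θ b) ≫ f.map (d'.fn.map n)
            rw [hθ, hθ]
            exact c.hom.toNatTrans.naturality n) }
      isHomLift' := fun b => by
        have h1 := based_app_map c.hom b
        have h2 : 𝒴.p.map (f.map (θ b)) = _ := (congrArg 𝒴.p.map (hθ b)).trans h1
        rw [based_map f] at h2
        refine vert_change 𝒳.p _ (vert_of_map_eq 𝒳.p (h := (d.fn.w_obj b).trans (d'.fn.w_obj b).symm) ?_) (d.fn.w_obj b)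
        rw [← cancel_mono (eqToHom (f.w_obj _).symm), ← cancel_epi (eqToHom (f.w_obj _)), h2]
        simp }
  refine ⟨{ toInhabited := ⟨⟨Θ, ?_, ?_⟩⟩, uniq := fun e => ?_ }⟩
  · refine nat_ext fun a => f.toFunctor.map_injective ?_
    show f.map (θ (j.obj a) ≫ d'.isoTop.hom.toNatTrans.app a) = f.map (d.isoTop.hom.toNatTrans.app a)
    rw [f.toFunctor.map_comp, hθ]
    exact hcw a
  · refine nat_ext fun b => ?_
    show d.isoBot.hom.toNatTrans.app b ≫ f.map (θ b) = d'.isoBot.hom.toNatTrans.app b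
    rw [hθ]
    exact (appIso d.isoBot b).hom_inv_id_assoc _
  · refine LiftSq.Sq.Lift.hom_ext (nat_ext fun b => f.toFunctor.map_injective ?_)
    show f.map (e.hom.toNatTrans.app b) = f.map (θ b)
    have h : d.isoBot.hom.toNatTrans.app b ≫ f.map (e.hom.toNatTrans.app b) = d'.isoBot.hom.toNatTrans.app b :=
      congrArg (fun t => t.toNatTrans.app b) e.w_bot
    rw [hθ]
    show _ = d.isoBot.inv.toNatTrans.app b ≫ d'.isoBot.hom.toNatTrans.app b
    rw [← h]
    exact ((appIso d.isoBot b).inv_hom_id_assoc _).symm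

end Groth.Agent.Stk19b.Theta
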