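import Groth.Agent.Stk19b.Theta.Rings
import Groth.Agent.SGA3cLib.DiagPoints
import Groth.Prelude.Def_Red2
import Mathlib.AlgebraicGeometry.ResidueField

/-!
# An additive torsor which is split on two branches

Over a scheme `T` over `R` covered by two opens `Ua`, `Ub` meeting only where `π` is invertible, the open of
`T ×_R Spec R[u, v]/(π v - u (u - 1))` avoiding `u = 1` over `Ua` and `u = 0` over `Ub` away from `π ≠ 0` is a
torsor under `𝔾_a` for the translations `u ↦ u + π c`, `v ↦ v + c (2 u - 1) + π c²`.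
-/

set_option autoImplicit false
set_option linter.style.haveILetI false
set_option backward.isDefEq.respectTransparency false
set_option backward.isDefEq.respectTransparency.types false

universe u

open CategoryTheory CategoryTheory.Limits AlgebraicGeometry MonoidalCategory CartesianMonoidalCategory MonObj Opposite
open TopologicalSpace
open Groth.Agent.Stk19b.QuotTriv Groth.Agent.SGA3cLib

namespace Groth.Agent.Stk19b.Theta.Split

variable {R : Type u} [CommRing R] (π : R)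

/-- The ring `R[u, v]/(π v - u (u - 1))`. -/
abbrev ERing : Type u :=
  MvPolynomial (Fin 2) R ⧸ Ideal.span
    {(MvPolynomial.C π * MvPolynomial.X 1 - MvPolynomial.X 0 * (MvPolynomial.X 0 - 1) : MvPolynomial (Fin 2) R)}

/-- Its spectrum. -/
noncomputable abbrev ESch : Over (Spec (CommRingCat.of R)) := CoactBr.sp R (ERing π)

instance : IsAffine (ESch π).left := inferInstanceAs (IsAffine (Spec _))

/-- The scalars as functions on a scheme over `R`. -/
noncomputable def rho {W : Scheme.{u}} (g : W ⟶ Spec (CommRingCat.of R)) : R →+* Γ(W, ⊤) :=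
  ((Scheme.ΓSpecIso (CommRingCat.of R)).inv ≫ g.appTop).hom

theorem rho_comp {W' W : Scheme.{u}} (f : W' ⟶ W) (g : W ⟶ Spec (CommRingCat.of R)) (r : R) :
    rho (f ≫ g) r = f.appTop (rho g r) := rfl

theorem rho_sp {B : Type u} [CommRing B] [Algebra R B] (r : R) :
    rho (CoactBr.sp R B).hom r = fn (R := R) (algebraMap R B r) :=
  (congrArg (fun φ => φ r) (Scheme.ΓSpecIso_inv_naturality (CommRingCat.ofHom (algebraMap R B)))).symm

variable {π}

/-- The coordinates of a point of `ESch π`. -/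
noncomputable def coord {W : Scheme.{u}} (z : W ⟶ (ESch π).left) (i : Fin 2) : Γ(W, ⊤) :=
  z.appTop (fn (R := R) (Ideal.Quotient.mk _ (MvPolynomial.X i) : ERing π))

theorem coord_comp {W' W : Scheme.{u}} (f : W' ⟶ W) (z : W ⟶ (ESch π).left) (i : Fin 2) :
    coord (f ≫ z) i = f.appTop (coord z i) := rfl

/-- The ring map of a point. -/
noncomputable def ptHom {W : Scheme.{u}} (z : W ⟶ (ESch π).left) : ERing π →+* Γ(W, ⊤) :=
  ((Scheme.ΓSpecIso (CommRingCat.of (ERing π))).inv ≫ z.appTop).hom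

theorem ptHom_algebraMap {W : Scheme.{u}} {g : W ⟶ Spec (CommRingCat.of R)} (z : W ⟶ (ESch π).left)
    (hz : z ≫ (ESch π).hom = g) (r : R) : ptHom z (algebraMap R (ERing π) r) = rho g r := by
  subst hz
  rw [rho_comp, rho_sp]
  rfl

theorem coord_rel {W : Scheme.{u}} {g : W ⟶ Spec (CommRingCat.of R)} (z : W ⟶ (ESch π).left)
    (hz : z ≫ (ESch π).hom = g) : rho g π * coord z 1 = coord z 0 * (coord z 0 - 1) := by
  have h : (algebraMap R (ERing π) π) * Ideal.Quotient.mk _ (MvPolynomial.X 1) =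
      Ideal.Quotient.mk _ (MvPolynomial.X 0) * (Ideal.Quotient.mk _ (MvPolynomial.X 0) - 1) := by
    rw [IsScalarTower.algebraMap_apply R (MvPolynomial (Fin 2) R) (ERing π), Ideal.Quotient.algebraMap_eq,
      MvPolynomial.algebraMap_eq, ← map_mul, ← map_one (Ideal.Quotient.mk _), ← map_sub, ← map_mul]
    exact (Ideal.Quotient.mk_eq_mk_iff_sub_mem _ _).2 (Ideal.subset_span rfl)
  have h' := congrArg (ptHom z) h
  rw [map_mul, map_mul, map_sub, map_one, ptHom_algebraMap z hz] at h'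
  exact h'

theorem exists_point {W : Scheme.{u}} (g : W ⟶ Spec (CommRingCat.of R)) (a b : Γ(W, ⊤))
    (h : rho g π * b = a * (a - 1)) :
    ∃ z : W ⟶ (ESch π).left, z ≫ (ESch π).hom = g ∧ coord z 0 = a ∧ coord z 1 = b := by
  let φ : ERing π →+* Γ(W, ⊤) := Ideal.Quotient.lift _ (MvPolynomial.eval₂Hom (rho g) ![a, b]) (fun x hx => by
    obtain ⟨c, rfl⟩ := Ideal.mem_span_singleton.1 hx
    simp [h])
  let z : W ⟶ (ESch π).left := W.toSpecΓ ≫ Spec.map (CommRingCat.ofHom φ)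
  have hφ : ∀ x : ERing π, z.appTop (fn (R := R) x) = φ x := fun x => by
    have e : z.appTop = (Spec.map (CommRingCat.ofHom φ)).appTop ≫ W.toSpecΓ.appTop := Scheme.Hom.comp_appTop _ _
    rw [e, Scheme.toSpecΓ_appTop]
    show (Scheme.ΓSpecIso Γ(W, ⊤)).hom ((Spec.map (CommRingCat.ofHom φ)).appTop _) = _
    have e2 := congrArg (fun ψ => ψ (fn (R := R) x)) (Scheme.ΓSpecIso_naturality (CommRingCat.ofHom φ))
    refine e2.trans ?_
    show φ ((Scheme.ΓSpecIso (CommRingCat.of (ERing π))).hom ((Scheme.ΓSpecIso (CommRingCat.of (ERing π))).inv x)) = φ x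
    rw [Iso.inv_hom_id_apply]
  refine ⟨z, ?_, ?_, ?_⟩
  · refine ext_of_isAffine (CommRingCat.hom_ext (RingHom.ext fun y => ?_))
    obtain ⟨r, rfl⟩ : ∃ r, (Scheme.ΓSpecIso (CommRingCat.of R)).inv r = y :=
      ⟨(Scheme.ΓSpecIso (CommRingCat.of R)).hom y, Iso.hom_inv_id_apply _ _⟩
    show rho (z ≫ (ESch π).hom) r = rho g r
    rw [rho_comp, rho_sp, hφ]
    show φ (Ideal.Quotient.mk _ (MvPolynomial.C r)) = _
    simp [φ]
  · rw [coord, hφ]; simp [φ]
  · rw [coord, hφ]; simp [φ]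

theorem point_ext {W : Scheme.{u}} {z z' : W ⟶ (ESch π).left} (h : z ≫ (ESch π).hom = z' ≫ (ESch π).hom)
    (h' : ∀ i, coord z i = coord z' i) : z = z' := by
  have e : ptHom z = ptHom z' := by
    refine Ideal.Quotient.ringHom_ext (MvPolynomial.ringHom_ext (fun r => ?_) h')
    exact (ptHom_algebraMap z rfl r).trans ((congrArg (fun g => rho g r) h).trans (ptHom_algebraMap z' rfl r).symm)
  refine ext_of_isAffine (CommRingCat.hom_ext (RingHom.ext fun y => ?_))
  have hy := RingHom.congr_fun e ((Scheme.ΓSpecIso (CommRingCat.of (ERing π))).hom y)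
  simp only [ptHom, CommRingCat.hom_comp, RingHom.comp_apply] at hy
  rwa [Iso.hom_inv_id_apply] at hy

section Eval

variable {W : Scheme.{u}} (w : W)

/-- The value of a global function at a point. -/
noncomputable def ev : Γ(W, ⊤) →+* W.residueField w := (W.evaluation ⊤ w trivial).hom

theorem mem_iff (f : Γ(W, ⊤)) : w ∈ W.basicOpen f ↔ ev w f ≠ 0 :=
  (W.evaluation_ne_zero_iff_mem_basicOpen w (show w ∈ (⊤ : W.Opens) from trivial) f).symm

end Eval

/-- Division by a pair of functions without common zero. -/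
theorem existsUnique_quot {W : Scheme.{u}} (a b x y : Γ(W, ⊤)) (h : ∀ w, w ∈ W.basicOpen a ∨ w ∈ W.basicOpen b)
    (hxy : x * b = y * a) : ∃! c, c * a = x ∧ c * b = y := by
  let U : ULift.{u} Bool → W.Opens := fun i => cond i.down (W.basicOpen a) (W.basicOpen b)
  let num : ULift.{u} Bool → Γ(W, ⊤) := fun i => cond i.down x y
  let den : ULift.{u} Bool → Γ(W, ⊤) := fun i => cond i.down a b
  have hu : ∀ i, IsUnit (W.presheaf.map (homOfLE (le_top : U i ≤ ⊤)).op (den i)) := by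
    rintro ⟨(_ | _)⟩ <;> exact RingedSpace.isUnit_res_basicOpen (X := W.toRingedSpace) _
  let sf : ∀ i, Γ(W, U i) := fun i => W.presheaf.map (homOfLE (le_top : U i ≤ ⊤)).op (num i) * ↑(hu i).unit⁻¹
  have hsf : ∀ i, sf i * W.presheaf.map (homOfLE (le_top : U i ≤ ⊤)).op (den i) =
      W.presheaf.map (homOfLE (le_top : U i ≤ ⊤)).op (num i) := fun i => by
    rw [_root_.mul_assoc, IsUnit.val_inv_mul, _root_.mul_one]
  have hnd : ∀ i j, num i * den j = num j * den i := by
    rintro ⟨(_ | _)⟩ ⟨(_ | _)⟩ <;> simp [num, den, hxy]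
  have hcompat : TopCat.Presheaf.IsCompatible W.presheaf U sf := by
    intro i j
    let ri := W.presheaf.map (Opens.infLELeft (U i) (U j)).op
    let rj := W.presheaf.map (Opens.infLERight (U i) (U j)).op
    let r := W.presheaf.map (homOfLE (le_top : U i ⊓ U j ≤ ⊤)).op
    have hi : ∀ f, ri (W.presheaf.map (homOfLE (le_top : U i ≤ ⊤)).op f) = r f := fun f => by
      rw [← ConcreteCategory.comp_apply, ← W.presheaf.map_comp]; rfl
    have hj : ∀ f, rj (W.presheaf.map (homOfLE (le_top : U j ≤ ⊤)).op f) = r f := fun f => by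
      rw [← ConcreteCategory.comp_apply, ← W.presheaf.map_comp]; rfl
    have e1 := congrArg ri (hsf i)
    have e2 := congrArg rj (hsf j)
    rw [map_mul, hi, hi] at e1
    rw [map_mul, hj, hj] at e2
    have u1 : IsUnit (r (den i)) := hi (den i) ▸ (hu i).map ri.hom
    have u2 : IsUnit (r (den j)) := hj (den j) ▸ (hu j).map rj.hom
    refine (u1.mul u2).mul_left_inj.1 ?_
    show ri (sf i) * (r (den i) * r (den j)) = rj (sf j) * (r (den i) * r (den j))
    rw [← _root_.mul_assoc, e1, _root_.mul_comm (r (den i)), ← _root_.mul_assoc, e2, ← map_mul, ← map_mul, hnd]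
  obtain ⟨c, hc, -⟩ := TopCat.Sheaf.existsUnique_gluing' W.sheaf U ⊤ (fun i => homOfLE le_top)
    (fun w _ => Opens.mem_iSup.2 ((h w).elim (fun ha => ⟨⟨true⟩, ha⟩) fun hb => ⟨⟨false⟩, hb⟩)) sf hcompat
  let c' : Γ(W, ⊤) := c
  replace hc : ∀ i, W.presheaf.map (homOfLE (le_top : U i ≤ ⊤)).op c' = sf i := hc
  clear_value c'
  clear c
  rename' c' => c
  have key : ∀ i, c * den i = num i := fun i => by
    refine TopCat.Presheaf.section_ext W.sheaf ⊤ _ _ fun w _ => ?_
    obtain ⟨j, hj⟩ : ∃ j, w ∈ U j := (h w).elim (fun ha => ⟨⟨true⟩, ha⟩) fun hb => ⟨⟨false⟩, hb⟩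
    let r := W.presheaf.map (homOfLE (le_top : U j ≤ ⊤)).op
    have e : r (c * den i) = r (num i) := by
      refine (hu j).mul_left_inj.1 ?_
      have hc' : r c = sf j := hc j
      show r (c * den i) * r (den j) = r (num i) * r (den j)
      rw [map_mul, hc', mul_right_comm, hsf j, ← map_mul, ← map_mul, hnd]
    have e' := congrArg (W.presheaf.germ (U j) w hj) e
    rwa [TopCat.Presheaf.germ_res_apply, TopCat.Presheaf.germ_res_apply] at e'
  refine ⟨c, ⟨key ⟨true⟩, key ⟨false⟩⟩, fun c' hc' => ?_⟩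
  refine TopCat.Presheaf.section_ext W.sheaf ⊤ _ _ fun w _ => ?_
  rcases h w with hw | hw
  · refine ((W.mem_basicOpen a w trivial).1 hw).mul_left_inj.1 ?_
    exact (map_mul _ _ _).symm.trans ((congrArg _ (hc'.1.trans (key ⟨true⟩).symm)).trans (map_mul _ _ _))
  · refine ((W.mem_basicOpen b w trivial).1 hw).mul_left_inj.1 ?_
    exact (map_mul _ _ _).symm.trans ((congrArg _ (hc'.2.trans (key ⟨false⟩).symm)).trans (map_mul _ _ _))

section Torsor

variable (π) (T : Over (Spec (CommRingCat.of R))) (Ua Ub : T.left.Opens)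

/-- A function is allowed over the two branches. -/
def Adm {W : Scheme.{u}} (y : W ⟶ T.left) (a : Γ(W, ⊤)) : Prop :=
  ∀ w, w ∈ W.basicOpen (rho (y ≫ T.hom) π) ∨ (y w ∈ Ua ∧ w ∈ W.basicOpen (a - 1)) ∨ (y w ∈ Ub ∧ w ∈ W.basicOpen a)

/-- The open subset of `T ×_R ESch`. -/
noncomputable def opn : (pullback T.hom (ESch π).hom).Opens :=
  (pullback T.hom (ESch π).hom).basicOpen (rho (pullback.fst T.hom (ESch π).hom ≫ T.hom) π) ⊔
    (pullback.fst T.hom (ESch π).hom ⁻¹ᵁ Ua ⊓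
      (pullback T.hom (ESch π).hom).basicOpen (coord (pullback.snd T.hom (ESch π).hom) 0 - 1)) ⊔
    (pullback.fst T.hom (ESch π).hom ⁻¹ᵁ Ub ⊓
      (pullback T.hom (ESch π).hom).basicOpen (coord (pullback.snd T.hom (ESch π).hom) 0))

/-- The total space of the torsor. -/
noncomputable def tot : Scheme.{u} := opn π T Ua Ub

/-- The projection of the torsor. -/
noncomputable def prj : tot π T Ua Ub ⟶ T.left := (opn π T Ua Ub).ι ≫ pullback.fst _ _

/-- The coordinates on the torsor. -/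
noncomputable def eMap : tot π T Ua Ub ⟶ (ESch π).left := (opn π T Ua Ub).ι ≫ pullback.snd _ _

theorem eMap_hom : eMap π T Ua Ub ≫ (ESch π).hom = prj π T Ua Ub ≫ T.hom := by
  rw [eMap, prj, Category.assoc, Category.assoc, pullback.condition]

/-- The first coordinate of a point. -/
noncomputable def uOf {W : Scheme.{u}} (q : W ⟶ tot π T Ua Ub) : Γ(W, ⊤) := coord (q ≫ eMap π T Ua Ub) 0

/-- The second coordinate of a point. -/
noncomputable def vOf {W : Scheme.{u}} (q : W ⟶ tot π T Ua Ub) : Γ(W, ⊤) := coord (q ≫ eMap π T Ua Ub) 1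

variable {π T Ua Ub}

theorem rel_of {W : Scheme.{u}} (q : W ⟶ tot π T Ua Ub) :
    rho ((q ≫ prj π T Ua Ub) ≫ T.hom) π * vOf π T Ua Ub q = uOf π T Ua Ub q * (uOf π T Ua Ub q - 1) :=
  coord_rel _ (by rw [Category.assoc, eMap_hom, Category.assoc])

theorem mem_pullback_basic {W' W : Scheme.{u}} (f : W ⟶ W') (s : Γ(W', ⊤)) (w : W) :
    f w ∈ W'.basicOpen s ↔ w ∈ W.basicOpen (f.appTop s) := by
  rw [← Scheme.preimage_basicOpen_top f s]; rfl

theorem adm_of {W : Scheme.{u}} (q : W ⟶ tot π T Ua Ub) :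
    Adm π T Ua Ub (q ≫ prj π T Ua Ub) (uOf π T Ua Ub q) := by
  intro w
  let q' : W ⟶ pullback T.hom (ESch π).hom := q ≫ (opn π T Ua Ub).ι
  have hq : q' w ∈ opn π T Ua Ub := by
    show (opn π T Ua Ub).ι (q w) ∈ _
    exact (q w).2
  rcases hq with (h | h) | h
  · left
    rw [SetLike.mem_coe, mem_pullback_basic, ← rho_comp] at h
    simpa [q', prj] using h
  · right; left
    refine ⟨h.1, ?_⟩
    have h2 := h.2
    rw [SetLike.mem_coe, mem_pullback_basic, map_sub, map_one, ← coord_comp] at h2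
    simpa [q', uOf, eMap] using h2
  · right; right
    refine ⟨h.1, ?_⟩
    have h2 := h.2
    rw [SetLike.mem_coe, mem_pullback_basic, ← coord_comp] at h2
    simpa [q', uOf, eMap] using h2

theorem exists_q {W : Scheme.{u}} (y : W ⟶ T.left) (a b : Γ(W, ⊤)) (h : rho (y ≫ T.hom) π * b = a * (a - 1))
    (hadm : Adm π T Ua Ub y a) :
    ∃ q : W ⟶ tot π T Ua Ub, q ≫ prj π T Ua Ub = y ∧ uOf π T Ua Ub q = a ∧ vOf π T Ua Ub q = b := by
  obtain ⟨z, hz, ha, hb⟩ := exists_point _ a b h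
  let q' := pullback.lift y z hz.symm
  have hr : Set.range q' ⊆ Set.range (opn π T Ua Ub).ι := by
    rw [Scheme.Opens.range_ι]
    rintro _ ⟨w, rfl⟩
    have e1 : pullback.fst T.hom (ESch π).hom (q' w) = y w := by
      rw [← Scheme.Hom.comp_apply, pullback.lift_fst]
    rcases hadm w with h | h | h
    · left; left
      rw [SetLike.mem_coe, mem_pullback_basic, ← rho_comp, pullback.lift_fst_assoc]
      exact h
    · left; right
      refine ⟨?_, ?_⟩
      · show pullback.fst T.hom (ESch π).hom (q' w) ∈ Ua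
        rw [e1]; exact h.1
      · rw [SetLike.mem_coe, mem_pullback_basic, map_sub, map_one, ← coord_comp, pullback.lift_snd, ha]
        exact h.2
    · right
      refine ⟨?_, ?_⟩
      · show pullback.fst T.hom (ESch π).hom (q' w) ∈ Ub
        rw [e1]; exact h.1
      · rw [SetLike.mem_coe, mem_pullback_basic, ← coord_comp, pullback.lift_snd, ha]
        exact h.2
  have e := IsOpenImmersion.lift_fac (opn π T Ua Ub).ι q' hr
  refine ⟨IsOpenImmersion.lift (opn π T Ua Ub).ι q' hr, ?_, ?_, ?_⟩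
  · rw [prj, reassoc_of% e]; exact pullback.lift_fst _ _ _
  · rw [uOf, eMap, reassoc_of% e]; exact (congrArg (coord · 0) (pullback.lift_snd _ _ _)).trans ha
  · rw [vOf, eMap, reassoc_of% e]; exact (congrArg (coord · 1) (pullback.lift_snd _ _ _)).trans hb

theorem q_ext {W : Scheme.{u}} {q q' : W ⟶ tot π T Ua Ub} (h : q ≫ prj π T Ua Ub = q' ≫ prj π T Ua Ub)
    (hu : uOf π T Ua Ub q = uOf π T Ua Ub q') (hv : vOf π T Ua Ub q = vOf π T Ua Ub q') : q = q' := by
  rw [← cancel_mono (opn π T Ua Ub).ι]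
  apply pullback.hom_ext
  · simpa [prj] using h
  · have e : q ≫ eMap π T Ua Ub = q' ≫ eMap π T Ua Ub := by
      refine point_ext (by rw [Category.assoc, Category.assoc, eMap_hom, reassoc_of% h]) fun i => ?_
      fin_cases i
      · exact hu
      · exact hv
    simpa [eMap] using e

theorem uOf_comp {W' W : Scheme.{u}} (f : W' ⟶ W) (q : W ⟶ tot π T Ua Ub) :
    uOf π T Ua Ub (f ≫ q) = f.appTop (uOf π T Ua Ub q) := by
  rw [uOf, Category.assoc, coord_comp]; rfl

theorem vOf_comp {W' W : Scheme.{u}} (f : W' ⟶ W) (q : W ⟶ tot π T Ua Ub) :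
    vOf π T Ua Ub (f ≫ q) = f.appTop (vOf π T Ua Ub q) := by
  rw [vOf, Category.assoc, coord_comp]; rfl

variable (π T Ua Ub) {S : Scheme.{u}} (h : Spec (CommRingCat.of R) ⟶ S)

/-- The torsor over `S`. -/
noncomputable def totS : Over S := Over.mk (prj π T Ua Ub ≫ T.hom ≫ h)

/-- Its projection. -/
noncomputable def prjS : totS π T Ua Ub h ⟶ (Over.map h).obj T := Over.homMk (prj π T Ua Ub) rfl

variable {π T Ua Ub}

/-- The point underlying a point of `totS`. -/
noncomputable abbrev pt {W : Over S} (q : W ⟶ totS π T Ua Ub h) : W.left ⟶ tot π T Ua Ub := q.left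

theorem pt_comp {W' W : Over S} (f : W' ⟶ W) (q : W ⟶ totS π T Ua Ub h) : pt h (f ≫ q) = f.left ≫ pt h q := rfl

theorem qS_ext {W : Over S} {q q' : W ⟶ totS π T Ua Ub h} (hy : q ≫ prjS π T Ua Ub h = q' ≫ prjS π T Ua Ub h)
    (hu : uOf π T Ua Ub (pt h q) = uOf π T Ua Ub (pt h q'))
    (hv : vOf π T Ua Ub (pt h q) = vOf π T Ua Ub (pt h q')) : q = q' :=
  Over.OverMorphism.ext (q_ext (congrArg CommaMorphism.left hy) hu hv)

theorem exists_act :
    ∃ act : Red.Ga S ⊗ totS π T Ua Ub h ⟶ totS π T Ua Ub h,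
      act ≫ prjS π T Ua Ub h = snd _ _ ≫ prjS π T Ua Ub h ∧
      ∀ (W : Over S) (g : W ⟶ Red.Ga S) (q : W ⟶ totS π T Ua Ub h),
        uOf π T Ua Ub (pt h (lift g q ≫ act)) =
          uOf π T Ua Ub (pt h q) + rho ((pt h q ≫ prj π T Ua Ub) ≫ T.hom) π * Red.gaFn g ∧
        vOf π T Ua Ub (pt h (lift g q ≫ act)) =
          vOf π T Ua Ub (pt h q) + Red.gaFn g * (2 * uOf π T Ua Ub (pt h q) - 1) +
            rho ((pt h q ≫ prj π T Ua Ub) ≫ T.hom) π * Red.gaFn g ^ 2 := by
  let W := Red.Ga S ⊗ totS π T Ua Ub h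
  let q : W.left ⟶ tot π T Ua Ub := pt h (snd (Red.Ga S) (totS π T Ua Ub h))
  let y := q ≫ prj π T Ua Ub
  let c : Γ(W.left, ⊤) := Red.gaFn (fst (Red.Ga S) (totS π T Ua Ub h))
  let p := rho (y ≫ T.hom) π
  let a := uOf π T Ua Ub q + p * c
  obtain ⟨r, hr, hru, hrv⟩ := exists_q (π := π) (Ua := Ua) (Ub := Ub) y a
    (vOf π T Ua Ub q + c * (2 * uOf π T Ua Ub q - 1) + p * c ^ 2) (by
      have := rel_of q
      linear_combination this) (by
      intro w
      rcases adm_of q w with hw | ⟨hy, hw⟩ | ⟨hy, hw⟩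
      · exact Or.inl hw
      all_goals
        by_cases hp : w ∈ W.left.basicOpen p
        · exact Or.inl hp
      · refine Or.inr (Or.inl ⟨hy, ?_⟩)
        rw [mem_iff] at hw hp ⊢
        simpa [a, not_ne_iff.1 hp] using hw
      · refine Or.inr (Or.inr ⟨hy, ?_⟩)
        rw [mem_iff] at hw hp ⊢
        simpa [a, not_ne_iff.1 hp] using hw)
  let act : W ⟶ totS π T Ua Ub h := Over.homMk r (by
    show r ≫ prj π T Ua Ub ≫ T.hom ≫ h = W.hom
    rw [reassoc_of% hr]
    simp only [y, q, Category.assoc]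
    exact Over.w (snd (Red.Ga S) (totS π T Ua Ub h)))
  refine ⟨act, Over.OverMorphism.ext hr, fun Z g q' => ?_⟩
  let l := lift g q'
  have hq : l.left ≫ q = pt h q' := congrArg CommaMorphism.left (lift_snd g q')
  have hc : l.left.appTop c = Red.gaFn g := by
    rw [← gaFn_comp, lift_fst]
  have hp : l.left.appTop p = rho ((pt h q' ≫ prj π T Ua Ub) ≫ T.hom) π := by
    rw [← rho_comp, ← hq]; simp [y]
  have hu : l.left.appTop (uOf π T Ua Ub q) = uOf π T Ua Ub (pt h q') := by rw [← uOf_comp, hq]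
  have hv : l.left.appTop (vOf π T Ua Ub q) = vOf π T Ua Ub (pt h q') := by rw [← vOf_comp, hq]
  constructor
  · rw [pt_comp, uOf_comp]
    show l.left.appTop (uOf π T Ua Ub r) = _
    rw [hru]
    simp only [a, map_add, map_mul, hu, hp, hc]
  · rw [pt_comp, vOf_comp]
    show l.left.appTop (vOf π T Ua Ub r) = _
    rw [hrv]
    simp only [map_add, map_mul, map_sub, map_pow, map_ofNat, map_one, hu, hv, hp, hc]

variable (π T Ua Ub)

/-- The translations. -/
noncomputable def actHom : Red.Ga S ⊗ totS π T Ua Ub h ⟶ totS π T Ua Ub h := (exists_act h).choose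

variable {π T Ua Ub}

theorem actHom_prjS : actHom π T Ua Ub h ≫ prjS π T Ua Ub h = snd _ _ ≫ prjS π T Ua Ub h :=
  (exists_act h).choose_spec.1

theorem lift_actHom_prjS {W : Over S} (g : W ⟶ Red.Ga S) (q : W ⟶ totS π T Ua Ub h) :
    lift g q ≫ actHom π T Ua Ub h ≫ prjS π T Ua Ub h = q ≫ prjS π T Ua Ub h := by
  rw [actHom_prjS, lift_snd_assoc]

theorem pt_prj_lift {W : Over S} (g : W ⟶ Red.Ga S) (q : W ⟶ totS π T Ua Ub h) :
    pt h (lift g q ≫ actHom π T Ua Ub h) ≫ prj π T Ua Ub = pt h q ≫ prj π T Ua Ub :=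
  congrArg CommaMorphism.left ((Category.assoc _ _ _).trans (lift_actHom_prjS h g q))

theorem uOf_act {W : Over S} (g : W ⟶ Red.Ga S) (q : W ⟶ totS π T Ua Ub h) :
    uOf π T Ua Ub (pt h (lift g q ≫ actHom π T Ua Ub h)) =
      uOf π T Ua Ub (pt h q) + rho ((pt h q ≫ prj π T Ua Ub) ≫ T.hom) π * Red.gaFn g :=
  ((exists_act h).choose_spec.2 W g q).1

theorem vOf_act {W : Over S} (g : W ⟶ Red.Ga S) (q : W ⟶ totS π T Ua Ub h) :
    vOf π T Ua Ub (pt h (lift g q ≫ actHom π T Ua Ub h)) =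
      vOf π T Ua Ub (pt h q) + Red.gaFn g * (2 * uOf π T Ua Ub (pt h q) - 1) +
        rho ((pt h q ≫ prj π T Ua Ub) ≫ T.hom) π * Red.gaFn g ^ 2 :=
  ((exists_act h).choose_spec.2 W g q).2

theorem act_one {W : Over S} (q : W ⟶ totS π T Ua Ub h) : lift 1 q ≫ actHom π T Ua Ub h = q := by
  refine qS_ext h ((Category.assoc _ _ _).trans (lift_actHom_prjS h 1 q)) ?_ ?_
  · rw [uOf_act, gaFn_one, mul_zero, add_zero]
  · rw [vOf_act, gaFn_one]; ring

theorem act_mul {W : Over S} (g g' : W ⟶ Red.Ga S) (q : W ⟶ totS π T Ua Ub h) :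
    lift (g * g') q ≫ actHom π T Ua Ub h =
      lift g (lift g' q ≫ actHom π T Ua Ub h) ≫ actHom π T Ua Ub h := by
  refine qS_ext h ?_ ?_ ?_
  · simp only [Category.assoc, lift_actHom_prjS]
  · simp only [uOf_act, pt_prj_lift, gaFn_mul]; ring
  · simp only [vOf_act, uOf_act, pt_prj_lift, gaFn_mul]; ring

variable (π T Ua Ub)

/-- The action by translations. -/
noncomputable def action : AlgGrp.Action (Red.Ga S) (totS π T Ua Ub h) where
  act := actHom π T Ua Ub h
  one_act := by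
    have e : η[Red.Ga S] ▷ totS π T Ua Ub h =
        lift (1 : 𝟙_ (Over S) ⊗ totS π T Ua Ub h ⟶ Red.Ga S) (snd _ _) := by
      apply CartesianMonoidalCategory.hom_ext
      · rw [whiskerRight_fst, lift_fst, toUnit_unique (fst _ _) (toUnit _), ← Hom.one_def]
      · rw [whiskerRight_snd, lift_snd]
    rw [e, act_one, leftUnitor_hom]
  mul_act := by
    have e : μ[Red.Ga S] ▷ totS π T Ua Ub h =
        lift ((fst (Red.Ga S ⊗ Red.Ga S) (totS π T Ua Ub h) ≫ fst _ _) * (fst _ _ ≫ snd _ _)) (snd _ _) := by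
      apply CartesianMonoidalCategory.hom_ext
      · rw [whiskerRight_fst, lift_fst, Hom.mul_def, ← comp_lift, lift_fst_snd, Category.comp_id]
      · rw [whiskerRight_snd, lift_snd]
    have e' : ∀ {W : Over S} (m : W ⟶ Red.Ga S ⊗ totS π T Ua Ub h),
        m ≫ actHom π T Ua Ub h = lift (m ≫ fst _ _) (m ≫ snd _ _) ≫ actHom π T Ua Ub h := fun m => by
      rw [← comp_lift, lift_fst_snd, Category.comp_id]
    rw [e, act_mul, ← Category.assoc, e' ((α_ _ _ _).hom ≫ _)]
    congr 1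
    apply CartesianMonoidalCategory.hom_ext
    · simp
    · simp only [lift_snd, Category.assoc, whiskerLeft_snd]
      rw [← Category.assoc (α_ _ _ _).hom (snd _ _)]
      congr 1
      apply CartesianMonoidalCategory.hom_ext <;> simp

variable {π T Ua Ub}

theorem adm_unit {W : Scheme.{u}} {y : W ⟶ T.left} {a a' b b' : Γ(W, ⊤)}
    (hdis : Ua ⊓ Ub ≤ T.left.basicOpen (rho T.hom π))
    (h1 : rho (y ≫ T.hom) π * b = a * (a - 1)) (h2 : rho (y ≫ T.hom) π * b' = a' * (a' - 1))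
    (ha : Adm π T Ua Ub y a) (ha' : Adm π T Ua Ub y a') (w : W) :
    w ∈ W.basicOpen (rho (y ≫ T.hom) π) ∨ w ∈ W.basicOpen (a + a' - 1) := by
  by_cases hp : w ∈ W.basicOpen (rho (y ≫ T.hom) π)
  · exact Or.inl hp
  refine Or.inr ?_
  have hn : ¬ (y w ∈ Ua ∧ y w ∈ Ub) := fun hab => hp (by
    have := hdis hab
    rwa [mem_pullback_basic, ← rho_comp] at this)
  have e1 := congrArg (ev w) h1
  have e2 := congrArg (ev w) h2
  rw [mem_iff] at hp ⊢
  simp only [map_mul, map_sub, map_one, not_ne_iff.1 hp, zero_mul] at e1 e2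
  rw [map_sub, map_add, map_one]
  rcases ha w with h | ⟨hy, h⟩ | ⟨hy, h⟩
  · rw [mem_iff] at h; exact absurd (not_ne_iff.1 hp) h
  · rw [mem_iff, map_sub, map_one] at h
    have ea := (mul_eq_zero.1 e1.symm).resolve_right h
    rcases ha' w with h' | ⟨hy', h'⟩ | ⟨hy', h'⟩
    · rw [mem_iff] at h'; exact absurd (not_ne_iff.1 hp) h'
    · rw [mem_iff, map_sub, map_one] at h'
      rw [ea, (mul_eq_zero.1 e2.symm).resolve_right h', add_zero, zero_sub]
      exact neg_ne_zero.2 one_ne_zero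
    · exact absurd ⟨hy, hy'⟩ hn
  · rw [mem_iff] at h
    have ea := sub_eq_zero.1 ((mul_eq_zero.1 e1.symm).resolve_left h)
    rcases ha' w with h' | ⟨hy', h'⟩ | ⟨hy', h'⟩
    · rw [mem_iff] at h'; exact absurd (not_ne_iff.1 hp) h'
    · exact absurd ⟨hy', hy⟩ hn
    · rw [mem_iff] at h'
      rw [ea, sub_eq_zero.1 ((mul_eq_zero.1 e2.symm).resolve_left h'), add_sub_cancel_right]
      exact one_ne_zero

theorem existsUnique_act (hdis : Ua ⊓ Ub ≤ T.left.basicOpen (rho T.hom π)) {W : Over S}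
    (p q : W ⟶ totS π T Ua Ub h) (he : p ≫ prjS π T Ua Ub h = q ≫ prjS π T Ua Ub h) :
    ∃! g, lift g q ≫ actHom π T Ua Ub h = p := by
  have hy : pt h p ≫ prj π T Ua Ub = pt h q ≫ prj π T Ua Ub := congrArg CommaMorphism.left he
  let y := pt h q ≫ prj π T Ua Ub
  let u := uOf π T Ua Ub (pt h q)
  let u' := uOf π T Ua Ub (pt h p)
  let v := vOf π T Ua Ub (pt h q)
  let v' := vOf π T Ua Ub (pt h p)
  let P := rho (y ≫ T.hom) π
  have r1 : P * v = u * (u - 1) := rel_of _
  have r2 : P * v' = u' * (u' - 1) := by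
    have := rel_of (pt h p)
    rwa [hy] at this
  have a1 : Adm π T Ua Ub y u := adm_of _
  have a2 : Adm π T Ua Ub y u' := by
    have := adm_of (pt h p)
    rwa [hy] at this
  obtain ⟨c, ⟨hc1, hc2⟩, hcu⟩ := existsUnique_quot P (u + u' - 1) (u' - u) (v' - v)
    (adm_unit hdis r1 r2 a1 a2) (by linear_combination r1 - r2)
  obtain ⟨g, hg⟩ := exists_gaFn (S := S) (X := W) c
  refine ⟨g, qS_ext h ((Category.assoc _ _ _).trans ((lift_actHom_prjS h g q).trans he.symm)) ?_ ?_,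
    fun g' hg' => gaFn_injective ?_⟩
  · rw [uOf_act, hg]
    show u + P * c = u'
    linear_combination hc1
  · rw [vOf_act, hg]
    show v + c * (2 * u - 1) + P * c ^ 2 = v'
    linear_combination hc2 + c * hc1
  · rw [hg]
    have e1 : u + P * Red.gaFn g' = u' := by
      have := congrArg (fun k => uOf π T Ua Ub (pt h k)) hg'
      simpa only [uOf_act] using this
    have e2 : v + Red.gaFn g' * (2 * u - 1) + P * Red.gaFn g' ^ 2 = v' := by
      have := congrArg (fun k => vOf π T Ua Ub (pt h k)) hg'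
      simpa only [vOf_act] using this
    exact hcu _ ⟨by linear_combination e1, by linear_combination e2 - Red.gaFn g' * e1⟩

theorem action_cart (hdis : Ua ⊓ Ub ≤ T.left.basicOpen (rho T.hom π)) :
    IsPullback (action π T Ua Ub h).act (snd (Red.Ga S) (totS π T Ua Ub h)) (prjS π T Ua Ub h) (prjS π T Ua Ub h) := by
  have hw : (action π T Ua Ub h).act ≫ prjS π T Ua Ub h = snd _ _ ≫ prjS π T Ua Ub h := actHom_prjS h
  refine IsPullback.of_isLimit' ⟨hw⟩ (PullbackCone.IsLimit.mk hw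
    (fun s => lift (existsUnique_act h hdis s.fst s.snd s.condition).choose s.snd)
    (fun s => (existsUnique_act h hdis s.fst s.snd s.condition).choose_spec.1) (fun s => lift_snd _ _)
    fun s m h1 h2 => ?_)
  apply CartesianMonoidalCategory.hom_ext
  · rw [lift_fst]
    refine (existsUnique_act h hdis s.fst s.snd s.condition).choose_spec.2 _ ?_
    show lift (m ≫ fst _ _) s.snd ≫ actHom π T Ua Ub h = s.fst
    rw [← h2, ← comp_lift, lift_fst_snd, Category.comp_id]
    exact h1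
  · rw [lift_snd]; exact h2

theorem isLocallyTrivial (hcov : ∀ x, x ∈ Ua ∨ x ∈ Ub) :
    NonAbH1.IsLocallyTrivialFor Scheme.fppfPrecoverage
      (Over.mk (prjS π T Ua Ub h).left : Over ((Over.map h).obj T).left) := by
  let U : ULift.{u} Bool → T.left.Opens := fun i => cond i.down Ua Ub
  let 𝒰 := Scheme.openCoverOfIsOpenCover T.left U (by
    refine (eq_top_iff.2 fun x _ => Opens.mem_iSup.2 ?_ : iSup U = ⊤)
    exact (hcov x).elim (fun h => ⟨⟨true⟩, h⟩) fun h => ⟨⟨false⟩, h⟩)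
  refine ⟨Presieve.ofArrows 𝒰.X 𝒰.f, Scheme.zariskiPrecoverage_le_fppfPrecoverage _ 𝒰.mem₀, ?_⟩
  rintro _ _ ⟨i⟩
  let y : (U i).toScheme ⟶ T.left := (U i).ι
  let a : Γ((U i).toScheme, ⊤) := cond i.down 0 1
  obtain ⟨q, hq, -⟩ := exists_q (π := π) (Ua := Ua) (Ub := Ub) y a 0
    (by rcases i with ⟨(_ | _)⟩ <;> simp [a])
    (fun w => by
      have hw : y w ∈ U i := w.2
      rcases i with ⟨(_ | _)⟩
      · refine Or.inr (Or.inr ⟨hw, ?_⟩)
        rw [mem_iff]; simp [a]
      · refine Or.inr (Or.inl ⟨hw, ?_⟩)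
        rw [mem_iff]; simp [a])
  exact ⟨q, hq⟩

/-- The torsor as an object of `B𝔾_a`. -/
noncomputable def obj (hcov : ∀ x, x ∈ Ua ∨ x ∈ Ub) (hdis : Ua ⊓ Ub ≤ T.left.basicOpen (rho T.hom π)) :
    AlgSt.QuotObj Scheme.fppfPrecoverage (Red.Ga S) (AlgSt.trivAction (Red.Ga S)) where
  base := (Over.map h).obj T
  P := totS π T Ua Ub h
  act := action π T Ua Ub h
  π := prjS π T Ua Ub h
  cart := action_cart h hdis
  loc := isLocallyTrivial h hcov
  φ := toUnit _
  eqv := toUnit_unique _ _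

section Map

variable {T' : Over (Spec (CommRingCat.of R))} {Ua' Ub' : T'.left.Opens} (f : T' ⟶ T)
  (ha : ∀ x, x ∈ Ua' ↔ f.left x ∈ Ua) (hb : ∀ x, x ∈ Ub' ↔ f.left x ∈ Ub)

include ha hb in
theorem adm_map {W : Scheme.{u}} (y : W ⟶ T'.left) (a : Γ(W, ⊤)) :
    Adm π T' Ua' Ub' y a ↔ Adm π T Ua Ub (y ≫ f.left) a := by
  refine forall_congr' fun w => ?_
  rw [ha, hb, Category.assoc, Over.w f]
  rfl

include ha hb in
theorem exists_map :
    ∃ top : totS π T' Ua' Ub' h ⟶ totS π T Ua Ub h,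
      top ≫ prjS π T Ua Ub h = prjS π T' Ua' Ub' h ≫ (Over.map h).map f ∧
      ∀ (W : Over S) (q : W ⟶ totS π T' Ua' Ub' h),
        uOf π T Ua Ub (pt h (q ≫ top)) = uOf π T' Ua' Ub' (pt h q) ∧
        vOf π T Ua Ub (pt h (q ≫ top)) = vOf π T' Ua' Ub' (pt h q) := by
  let q₀ : (tot π T' Ua' Ub') ⟶ tot π T' Ua' Ub' := 𝟙 _
  obtain ⟨r, hr, hu, hv⟩ := exists_q (π := π) (Ua := Ua) (Ub := Ub) ((q₀ ≫ prj π T' Ua' Ub') ≫ f.left)
    (uOf π T' Ua' Ub' q₀) (vOf π T' Ua' Ub' q₀)
    (by rw [Category.assoc _ f.left, Over.w f]; exact rel_of q₀)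
    ((adm_map f ha hb _ _).1 (adm_of q₀))
  rw [Category.id_comp] at hr
  let top : totS π T' Ua' Ub' h ⟶ totS π T Ua Ub h := Over.homMk r (by
    show r ≫ prj π T Ua Ub ≫ T.hom ≫ h = prj π T' Ua' Ub' ≫ T'.hom ≫ h
    rw [reassoc_of% hr, reassoc_of% Over.w f])
  refine ⟨top, Over.OverMorphism.ext hr, fun W q => ⟨?_, ?_⟩⟩
  · rw [pt_comp, uOf_comp]
    show q.left.appTop (uOf π T Ua Ub r) = _
    rw [hu, ← uOf_comp]
    exact congrArg (uOf π T' Ua' Ub') (Category.comp_id _)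
  · rw [pt_comp, vOf_comp]
    show q.left.appTop (vOf π T Ua Ub r) = _
    rw [hv, ← vOf_comp]
    exact congrArg (vOf π T' Ua' Ub') (Category.comp_id _)

/-- The map of total spaces. -/
noncomputable def topMap : totS π T' Ua' Ub' h ⟶ totS π T Ua Ub h := (exists_map h f ha hb).choose

theorem topMap_prjS : topMap h f ha hb ≫ prjS π T Ua Ub h = prjS π T' Ua' Ub' h ≫ (Over.map h).map f :=
  (exists_map (π := π) h f ha hb).choose_spec.1

theorem uOf_topMap {W : Over S} (q : W ⟶ totS π T' Ua' Ub' h) :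
    uOf π T Ua Ub (pt h (q ≫ topMap h f ha hb)) = uOf π T' Ua' Ub' (pt h q) :=
  ((exists_map (π := π) h f ha hb).choose_spec.2 W q).1

theorem vOf_topMap {W : Over S} (q : W ⟶ totS π T' Ua' Ub' h) :
    vOf π T Ua Ub (pt h (q ≫ topMap h f ha hb)) = vOf π T' Ua' Ub' (pt h q) :=
  ((exists_map (π := π) h f ha hb).choose_spec.2 W q).2

theorem pt_topMap_prj {W : Over S} (q : W ⟶ totS π T' Ua' Ub' h) :
    pt h (q ≫ topMap h f ha hb) ≫ prj π T Ua Ub = (pt h q ≫ prj π T' Ua' Ub') ≫ f.left := by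
  show ((q ≫ topMap h f ha hb) ≫ prjS π T Ua Ub h).left = (q ≫ prjS π T' Ua' Ub' h ≫ (Over.map h).map f).left
  rw [Category.assoc, topMap_prjS]

theorem rho_topMap {W : Over S} (q : W ⟶ totS π T' Ua' Ub' h) :
    rho ((pt h (q ≫ topMap h f ha hb) ≫ prj π T Ua Ub) ≫ T.hom) π =
      rho ((pt h q ≫ prj π T' Ua' Ub') ≫ T'.hom) π := by
  rw [pt_topMap_prj, Category.assoc _ f.left, Over.w f]

theorem topMap_eqv : (action π T' Ua' Ub' h).act ≫ topMap h f ha hb =
    (Red.Ga S ◁ topMap h f ha hb) ≫ (action π T Ua Ub h).act := by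
  show actHom π T' Ua' Ub' h ≫ topMap h f ha hb = (Red.Ga S ◁ topMap h f ha hb) ≫ actHom π T Ua Ub h
  have e : actHom π T' Ua' Ub' h =
      lift (fst (Red.Ga S) (totS π T' Ua' Ub' h)) (snd _ _) ≫ actHom π T' Ua' Ub' h := by
    rw [lift_fst_snd, Category.id_comp]
  rw [whiskerLeft_eq, e]
  refine qS_ext h ?_ ?_ ?_
  · simp only [Category.assoc, topMap_prjS]
    rw [reassoc_of% (lift_actHom_prjS (π := π) (T := T') (Ua := Ua') (Ub := Ub') h), lift_actHom_prjS, Category.assoc,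
      topMap_prjS]
  · simp only [uOf_topMap, uOf_act, rho_topMap]
  · simp only [vOf_topMap, vOf_act, uOf_topMap, rho_topMap]

theorem topMap_cart :
    IsPullback (topMap h f ha hb) (prjS π T' Ua' Ub' h) (prjS π T Ua Ub h) ((Over.map h).map f) := by
  have hw := topMap_prjS (π := π) h f ha hb
  have hex : ∀ s : PullbackCone (prjS π T Ua Ub h) ((Over.map h).map f), ∃ q,
      q ≫ prjS π T' Ua' Ub' h = s.snd ∧
      uOf π T' Ua' Ub' (pt h q) = uOf π T Ua Ub (pt h s.fst) ∧
      vOf π T' Ua' Ub' (pt h q) = vOf π T Ua Ub (pt h s.fst) := by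
    intro s
    let y : s.pt.left ⟶ T'.left := s.snd.left
    have hy : pt h s.fst ≫ prj π T Ua Ub = y ≫ f.left := congrArg CommaMorphism.left s.condition
    obtain ⟨q, hq, hu, hv⟩ := exists_q (π := π) (Ua := Ua') (Ub := Ub') y (uOf π T Ua Ub (pt h s.fst))
      (vOf π T Ua Ub (pt h s.fst))
      (by
        have := rel_of (pt h s.fst)
        rwa [hy, Category.assoc, Over.w f] at this)
      ((adm_map f ha hb _ _).2 (by rw [← hy]; exact adm_of _))
    refine ⟨Over.homMk q (by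
      show q ≫ prj π T' Ua' Ub' ≫ T'.hom ≫ h = s.pt.hom
      rw [reassoc_of% hq]
      exact Over.w s.snd), Over.OverMorphism.ext hq, hu, hv⟩
  choose q hq1 hq2 hq3 using hex
  refine IsPullback.of_isLimit' ⟨hw⟩ (PullbackCone.IsLimit.mk hw q (fun s => qS_ext h ?_ ?_ ?_) hq1
    fun s m h1 h2 => qS_ext h (h2.trans (hq1 s).symm) ?_ ?_)
  · rw [Category.assoc, hw, reassoc_of% (hq1 s)]; exact s.condition.symm
  · rw [uOf_topMap, hq2]
  · rw [vOf_topMap, hq3]
  · rw [hq2, ← h1, uOf_topMap]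
  · rw [hq3, ← h1, vOf_topMap]

/-- The morphism of torsors over a morphism of bases. -/
noncomputable def homOf (hcov : ∀ x, x ∈ Ua ∨ x ∈ Ub) (hdis : Ua ⊓ Ub ≤ T.left.basicOpen (rho T.hom π))
    (hcov' : ∀ x, x ∈ Ua' ∨ x ∈ Ub') (hdis' : Ua' ⊓ Ub' ≤ T'.left.basicOpen (rho T'.hom π)) :
    obj h hcov' hdis' ⟶ obj h hcov hdis where
  base := (Over.map h).map f
  top := topMap h f ha hb
  eqv := topMap_eqv h f ha hb
  cart := topMap_cart h f ha hb
  wφ := toUnit_unique _ _

end Map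

end Torsor

end Groth.Agent.Stk19b.Theta.Split
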